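/-
TI elementary abelian 2-subgroups `V` with `F*(N(V)) = O_2(N(V))`, maximal abelian normal in `N(V)`.
Main definitions: `cj`, `Qof`, `Pof`, `Setting`; main results: `Setting.conj`, `Setting.commutator_mem`,
`Setting.mul_self_mem`, `Setting.eq_of_central`, `Setting.mem_Qof_of_centralizes_Pof`,
`Setting.commute_of_normalizes`.
-/
import Cfsg.Agent.Lib.Cores.Basic
import Cfsg.Agent.Lib.Components.Centralize
import Cfsg.Agent.Lib.PGroup.Basic

set_option autoImplicit false

namespace Cfsg.Agent.TIRadical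

open Subgroup
open scoped commutatorElement

variable {G : Type*} [Group G]

/-- `x A x⁻¹`. -/
abbrev cj (x : G) (A : Subgroup G) : Subgroup G := A.map (MulAut.conj x).toMonoidHom

theorem mem_cj {x y : G} {A : Subgroup G} : y ∈ cj x A ↔ x⁻¹ * y * x ∈ A := by
  simp only [mem_map, MulEquiv.coe_toMonoidHom, MulAut.conj_apply]
  constructor
  · rintro ⟨a, ha, rfl⟩
    rwa [show x⁻¹ * (x * a * x⁻¹) * x = a by group]
  · intro h
    exact ⟨_, h, by group⟩

theorem conj_mem_cj {x a : G} {A : Subgroup G} (ha : a ∈ A) : x * a * x⁻¹ ∈ cj x A :=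
  ⟨a, ha, rfl⟩

theorem cj_cj (x y : G) (A : Subgroup G) : cj x (cj y A) = cj (x * y) A := by
  ext u
  simp only [mem_cj, mul_inv_rev, mul_assoc]

theorem cj_one (A : Subgroup G) : cj 1 A = A := by
  ext u; simp [mem_cj]

theorem cj_eq_self {x : G} {A : Subgroup G} (hx : x ∈ normalizer (A : Set G)) : cj x A = A := by
  ext u
  rw [mem_cj]
  simpa [mul_assoc] using mem_normalizer_iff'.1 hx (x⁻¹ * u)

theorem mem_normalizer_of_cj_eq {x : G} {A : Subgroup G} (h : cj x A = A) :
    x ∈ normalizer (A : Set G) := by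
  rw [mem_normalizer_iff]
  intro u
  conv_rhs => rw [← h, mem_cj, show x⁻¹ * (x * u * x⁻¹) * x = u by group]

theorem card_cj (x : G) (A : Subgroup G) : Nat.card ↥(cj x A) = Nat.card ↥A :=
  card_map_of_injective (MulAut.conj x).injective

/-- `O_2(N(A))`. -/
def Qof (A : Subgroup G) : Subgroup G :=
  (Cfsg.pCore 2 ↥(normalizer (A : Set G))).map (normalizer (A : Set G)).subtype

/-- `C_{O_2(N(A))}(A)`. -/
def Pof (A : Subgroup G) : Subgroup G := Qof A ⊓ centralizer (A : Set G)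

theorem Qof_le (A : Subgroup G) : Qof A ≤ normalizer (A : Set G) := map_subtype_le _

theorem isPGroup_Qof (A : Subgroup G) : IsPGroup 2 ↥(Qof A) :=
  (Cores.isPGroup_pCore 2 _).map _

theorem isPGroup_Pof (A : Subgroup G) : IsPGroup 2 ↥(Pof A) := (isPGroup_Qof A).to_le inf_le_left

theorem conj_mem_Qof {A : Subgroup G} {m q : G} (hm : m ∈ normalizer (A : Set G)) (hq : q ∈ Qof A) :
    m * q * m⁻¹ ∈ Qof A := by
  obtain ⟨q, hq, rfl⟩ := hq
  exact ⟨_, (Cores.pCore_normal 2 _).conj_mem q hq ⟨m, hm⟩, rfl⟩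

theorem le_Qof {A N : Subgroup G} (hle : N ≤ normalizer (A : Set G))
    (hn : ∀ m ∈ normalizer (A : Set G), ∀ n ∈ N, m * n * m⁻¹ ∈ N) (hp : IsPGroup 2 ↥N) :
    N ≤ Qof A := by
  intro n hnN
  refine ⟨⟨n, hle hnN⟩, Cores.le_pCore (N := N.subgroupOf _) ⟨fun u hu m => ?_⟩ ?_
    (show n ∈ N from hnN), rfl⟩
  · exact hn m.1 m.2 u.1 hu
  · exact hp.comap_of_injective _ (subtype_injective _)

theorem cj_normalizer (x : G) (A : Subgroup G) :
    cj x (normalizer (A : Set G)) = normalizer ((cj x A : Subgroup G) : Set G) := by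
  ext u
  rw [mem_cj]
  constructor
  · intro h
    refine mem_normalizer_of_cj_eq ?_
    rw [cj_cj, show u * x = x * (x⁻¹ * u * x) by group, ← cj_cj, cj_eq_self h]
  · intro h
    refine mem_normalizer_of_cj_eq ?_
    rw [show x⁻¹ * u * x = x⁻¹ * (u * x) by group, ← cj_cj, ← cj_cj, cj_eq_self h, cj_cj,
      inv_mul_cancel, cj_one]

theorem cj_Qof_le (x : G) (A : Subgroup G) : cj x (Qof A) ≤ Qof (cj x A) := by
  refine le_Qof ?_ ?_ ((isPGroup_Qof A).map _)
  · rw [← cj_normalizer]; exact map_mono (Qof_le A)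
  · intro m hm q hq
    rw [← cj_normalizer, mem_cj] at hm
    rw [mem_cj] at hq ⊢
    rw [show x⁻¹ * (m * q * m⁻¹) * x = (x⁻¹ * m * x) * (x⁻¹ * q * x) * (x⁻¹ * m * x)⁻¹ by group]
    exact conj_mem_Qof hm hq

theorem cj_Qof (x : G) (A : Subgroup G) : cj x (Qof A) = Qof (cj x A) := by
  refine le_antisymm (cj_Qof_le x A) fun q hq => ?_
  have h := cj_Qof_le x⁻¹ (cj x A) (conj_mem_cj hq)
  rw [cj_cj, inv_mul_cancel, cj_one] at h
  rw [mem_cj]
  simpa [mul_assoc] using h

theorem cj_centralizer (x : G) (A : Subgroup G) :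
    cj x (centralizer (A : Set G)) = centralizer ((cj x A : Subgroup G) : Set G) := by
  ext u
  rw [mem_cj, mem_centralizer_iff, mem_centralizer_iff]
  constructor
  · rintro h _ ⟨a, ha, rfl⟩
    simp only [MulEquiv.coe_toMonoidHom, MulAut.conj_apply]
    calc x * a * x⁻¹ * u = x * (a * (x⁻¹ * u * x)) * x⁻¹ := by group
      _ = _ := by rw [h a ha]; group
  · intro h a ha
    have := h _ (conj_mem_cj ha)
    calc a * (x⁻¹ * u * x) = x⁻¹ * (x * a * x⁻¹ * u) * x := by group
      _ = _ := by rw [this]; group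

theorem cj_Pof (x : G) (A : Subgroup G) : cj x (Pof A) = Pof (cj x A) := by
  rw [Pof, Pof, ← cj_Qof, ← cj_centralizer]
  exact map_inf _ _ _ (MulAut.conj x).injective

/-- The hypotheses on `V`. -/
structure Setting (V : Subgroup G) : Prop where
  el : Cfsg.IsElementaryAbelian 2 V
  cent : ∀ m ∈ normalizer (V : Set G), (∀ q ∈ Qof V, m * q = q * m) → m ∈ Qof V
  maximal : ∀ A : Subgroup G, V ≤ A → A ≤ normalizer (V : Set G) → IsMulCommutative ↥A →
    (∀ m ∈ normalizer (V : Set G), ∀ a ∈ A, m * a * m⁻¹ ∈ A) → A = V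
  ti : ∀ x v : G, v ∈ V → v ≠ 1 → x * v * x⁻¹ ∈ V → x ∈ normalizer (V : Set G)

namespace Setting

variable {V : Subgroup G}

theorem comm (hV : Setting V) {a b : G} (ha : a ∈ V) (hb : b ∈ V) : a * b = b * a := by
  have := hV.el.1
  exact setLike_mul_comm ha hb

theorem sq (hV : Setting V) {a : G} (ha : a ∈ V) : a * a = 1 := by
  rw [← pow_two]; exact hV.el.2 a ha

theorem inv_eq (hV : Setting V) {a : G} (ha : a ∈ V) : a⁻¹ = a :=
  inv_eq_of_mul_eq_one_right (hV.sq ha)

theorem le_centralizer (hV : Setting V) : V ≤ centralizer (V : Set G) :=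
  fun _ ha _b hb => hV.comm hb ha

theorem le_Qof (hV : Setting V) : V ≤ Qof V :=
  TIRadical.le_Qof le_normalizer (fun m hm n hn => (mem_normalizer_iff.1 hm n).1 hn)
    (fun a => ⟨1, Subtype.ext (by rw [pow_one, SubmonoidClass.coe_pow, OneMemClass.coe_one]; exact hV.el.2 a a.2)⟩)

theorem le_Pof (hV : Setting V) : V ≤ Pof V := le_inf hV.le_Qof hV.le_centralizer

theorem mem_normalizer_of_commute (hV : Setting V) {x v : G} (hv : v ∈ V) (hv1 : v ≠ 1)
    (h : x * v = v * x) : x ∈ normalizer (V : Set G) :=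
  hV.ti x v hv hv1 (by rwa [h, mul_inv_cancel_right])

theorem conj (hV : Setting V) (x : G) : Setting (cj x V) := by
  refine ⟨⟨?_, ?_⟩, ?_, ?_, ?_⟩
  · refine ⟨⟨fun a b => Subtype.ext ?_⟩⟩
    obtain ⟨_, a', ha, rfl⟩ := a
    obtain ⟨_, b', hb, rfl⟩ := b
    change (MulAut.conj x) a' * (MulAut.conj x) b' = (MulAut.conj x) b' * (MulAut.conj x) a'
    rw [← map_mul, ← map_mul, hV.comm ha hb]
  · rintro _ ⟨a, ha, rfl⟩
    rw [pow_two]
    change (MulAut.conj x) a * (MulAut.conj x) a = 1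
    rw [← map_mul, hV.sq ha, map_one]
  · intro m hm hc
    rw [← cj_normalizer, mem_cj] at hm
    rw [← cj_Qof, mem_cj]
    refine hV.cent _ hm fun q hq => ?_
    have := hc _ (cj_Qof x V ▸ conj_mem_cj hq)
    calc x⁻¹ * m * x * q = x⁻¹ * (m * (x * q * x⁻¹)) * x := by group
      _ = _ := by rw [this]; group
  · intro A hVA hAN hA hn
    have := hA
    have key : cj x⁻¹ A = V := by
      refine hV.maximal _ ?_ ?_ inferInstance ?_
      · intro v hv
        rw [mem_cj, inv_inv]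
        exact hVA (conj_mem_cj hv)
      · intro a ha
        rw [mem_cj, inv_inv] at ha
        have := hAN ha
        rw [← cj_normalizer, mem_cj] at this
        simpa [mul_assoc] using this
      · intro m hm a ha
        rw [mem_cj, inv_inv] at ha ⊢
        rw [show x * (m * a * m⁻¹) * x⁻¹ = (x * m * x⁻¹) * (x * a * x⁻¹) * (x * m * x⁻¹)⁻¹ by group]
        exact hn _ (by rw [← cj_normalizer]; exact conj_mem_cj hm) _ ha
    rw [← key, cj_cj, mul_inv_cancel, cj_one]
  · intro y v hv hv1 hyv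
    rw [← cj_normalizer, mem_cj]
    rw [mem_cj] at hv hyv
    refine hV.ti _ _ hv (fun h => hv1 ?_) ?_
    · rwa [← conj_eq_one_iff (a := x⁻¹), inv_inv]
    · rwa [show x⁻¹ * y * x * (x⁻¹ * v * x) * (x⁻¹ * y * x)⁻¹ = x⁻¹ * (y * v * y⁻¹) * x by group]

theorem normalizer_conj_mem_Pof {m p : G} (hm : m ∈ normalizer (V : Set G)) (hp : p ∈ Pof V) :
    m * p * m⁻¹ ∈ Pof V := by
  rw [← cj_eq_self hm, ← cj_Pof]
  exact conj_mem_cj hp

/-- The centre of `C_Q(V)` is `V`. -/
theorem eq_of_central (hV : Setting V) {x : G} (hx : x ∈ Pof V)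
    (hc : ∀ p ∈ Pof V, x * p = p * x) : x ∈ V := by
  set A := Pof V ⊓ centralizer (Pof V : Set G) with hA
  have key : A = V := by
    refine hV.maximal A (le_inf hV.le_Pof fun v hv p hp => (hp.2 v hv).symm)
      ((inf_le_left.trans inf_le_left).trans (Qof_le V)) ⟨⟨fun a b => Subtype.ext ?_⟩⟩ ?_
    · exact b.2.2 a a.2.1
    · rintro m hm a ⟨ha, hac⟩
      refine ⟨normalizer_conj_mem_Pof hm ha, fun p hp => ?_⟩
      have hp' : m⁻¹ * p * m ∈ Pof V := by
        simpa [mul_assoc] using normalizer_conj_mem_Pof (inv_mem hm) hp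
      calc p * (m * a * m⁻¹) = m * ((m⁻¹ * p * m) * a) * m⁻¹ := by group
        _ = _ := by rw [hac _ hp']; group
  rw [← key]
  exact ⟨hx, fun p hp => (hc p hp).symm⟩

variable [Finite G]

theorem commutator_Pof_le (hV : Setting V) : ⁅Pof V, Pof V⁆ ≤ V := by
  classical
  have := Fact.mk Nat.prime_two
  have : Group.IsNilpotent ↥(Pof V) := (isPGroup_Pof V).isNilpotent
  -- `Pof V` has class at most two
  have hex : ∃ k, (⊤ : Subgroup ↥(Pof V)).lowerCentralSeries k ≤ center ↥(Pof V) := by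
    obtain ⟨n, hn⟩ := Subgroup.nilpotent_iff_lowerCentralSeries.1
      (inferInstance : Group.IsNilpotent ↥(Pof V))
    exact ⟨n, hn ▸ bot_le⟩
  have hle : commutator ↥(Pof V) ≤ center ↥(Pof V) := by
    rw [← Subgroup.top_lowerCentralSeries_one]
    by_contra hne
    have hk := Nat.find_spec hex
    obtain ⟨m, hm⟩ : ∃ m, Nat.find hex = m + 2 := by
      refine ⟨Nat.find hex - 2, ?_⟩
      have : ¬ Nat.find hex ≤ 1 := fun h =>
        hne ((Subgroup.lowerCentralSeries_antitone _ h).trans hk)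
      omega
    rw [hm, Subgroup.lowerCentralSeries_succ] at hk
    set N := (⊤ : Subgroup ↥(Pof V)).lowerCentralSeries (m + 1) with hN
    have hNle : N ≤ commutator ↥(Pof V) := by
      rw [← Subgroup.top_lowerCentralSeries_one]; exact Subgroup.lowerCentralSeries_antitone _ (by omega)
    have h1 : ⁅⁅N, (⊤ : Subgroup ↥(Pof V))⁆, (⊤ : Subgroup ↥(Pof V))⁆ = ⊥ :=
      commutator_eq_bot_iff_le_centralizer.2 (hk.trans (center_le_centralizer _))
    have h2 : ⁅⁅(⊤ : Subgroup ↥(Pof V)), N⁆, (⊤ : Subgroup ↥(Pof V))⁆ = ⊥ := by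
      rw [commutator_comm (⊤ : Subgroup ↥(Pof V)) N]; exact h1
    have h3 : ⁅commutator ↥(Pof V), N⁆ = ⊥ := by
      rw [commutator_def]; exact commutator_commutator_eq_bot_of_rotate h2 h1
    have hab : ∀ a ∈ N, ∀ b ∈ N, a * b = b * a := fun a ha b hb =>
      (commutator_eq_bot_iff_le_centralizer.1 h3 (hNle ha) b hb).symm
    -- `N V` is an abelian normal subgroup of `N(V)`
    have key : N.map (Pof V).subtype ⊔ V = V := by
      refine hV.maximal _ le_sup_right (sup_le (((map_subtype_le _).trans inf_le_left).trans (Qof_le V))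
        le_normalizer) ?_ ?_
      · rw [sup_eq_closure]
        refine isMulCommutative_closure ?_
        rintro a (⟨a', ha', rfl⟩ | ha) b (⟨b', hb', rfl⟩ | hb)
        · exact congrArg Subtype.val (hab a' ha' b' hb')
        · exact (a'.2.2 b hb).symm
        · exact b'.2.2 a ha
        · exact hV.comm ha hb
      · intro n hn a ha
        have h : (N.map (Pof V).subtype ⊔ V).map (MulAut.conj n).toMonoidHom =
            N.map (Pof V).subtype ⊔ V := by
          rw [Subgroup.map_sup]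
          congr 1
          · let σ : MulAut ↥(Pof V) := ((MulAut.conj n).subgroupMap (Pof V)).trans
              (MulEquiv.subgroupCongr ((cj_Pof n V).trans (by rw [cj_eq_self hn])))
            have hchar : N.map σ.toMonoidHom = N :=
              characteristic_iff_map_eq.1 inferInstance σ
            conv_rhs => rw [← hchar]
            rw [map_map, map_map]
            rfl
          · exact cj_eq_self hn
        exact h.le (conj_mem_cj ha)
    refine Nat.find_min hex (show m + 1 < Nat.find hex by omega) fun a ha => ?_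
    have haV : (a : G) ∈ V := key.le (mem_sup_left ⟨a, ha, rfl⟩)
    exact mem_center_iff.2 fun b => Subtype.ext (b.2.2 _ haV).symm
  rw [commutator_le]
  intro a ha b hb
  have h := hle (commutator_mem_commutator (mem_top (⟨a, ha⟩ : ↥(Pof V))) (mem_top ⟨b, hb⟩))
  exact hV.eq_of_central (x := ⁅a, b⁆) (⁅(⟨a, ha⟩ : ↥(Pof V)), (⟨b, hb⟩ : ↥(Pof V))⁆).2
    fun p hp => (congrArg Subtype.val (mem_center_iff.1 h ⟨p, hp⟩)).symm

theorem comm_mem (hV : Setting V) {a b : G} (ha : a ∈ Pof V) (hb : b ∈ Pof V) :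
    a * b * a⁻¹ * b⁻¹ ∈ V :=
  hV.commutator_Pof_le (commutatorElement_def a b ▸ commutator_mem_commutator ha hb)

theorem mul_self_mem (hV : Setting V) {a : G} (ha : a ∈ Pof V) : a * a ∈ V := by
  refine hV.eq_of_central ((Pof V).mul_mem ha ha) fun p hp => ?_
  obtain ⟨c, hc, hcv⟩ : ∃ c, c = a * p * a⁻¹ * p⁻¹ ∧ c ∈ V := ⟨_, rfl, hV.comm_mem ha hp⟩
  have e : a * p = c * p * a := by rw [hc]; group
  have hac : a * c = c * a := (ha.2 c hcv).symm
  calc a * a * p = a * c * p * a := by rw [mul_assoc, e]; simp only [mul_assoc]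
    _ = c * (a * p) * a := by rw [hac]; simp only [mul_assoc]
    _ = (c * c) * p * (a * a) := by rw [e]; simp only [mul_assoc]
    _ = p * (a * a) := by rw [hV.sq hcv, one_mul]

/-- `C_{N(V)}(C_Q(V)) ≤ Q`. -/
theorem mem_Qof_of_centralizes_Pof (hV : Setting V) {l : G} (hl : l ∈ normalizer (V : Set G))
    (hc : ∀ p ∈ Pof V, l * p = p * l) : l ∈ Qof V := by
  have := Fact.mk Nat.prime_two
  set C := normalizer (V : Set G) ⊓ centralizer (Pof V : Set G) with hC
  refine TIRadical.le_Qof (N := C) inf_le_left ?_ ?_ ⟨hl, fun p hp => (hc p hp).symm⟩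
  · rintro m hm c ⟨hc1, hc2⟩
    refine ⟨(normalizer (V : Set G)).mul_mem ((normalizer (V : Set G)).mul_mem hm hc1)
      ((normalizer (V : Set G)).inv_mem hm), fun p hp => ?_⟩
    have hp' : m⁻¹ * p * m ∈ Pof V := by
      simpa [mul_assoc] using normalizer_conj_mem_Pof (inv_mem hm) hp
    calc p * (m * c * m⁻¹) = m * ((m⁻¹ * p * m) * c) * m⁻¹ := by group
      _ = _ := by rw [hc2 _ hp']; group
  · intro c
    obtain ⟨k, hk⟩ := Cfsg.Agent.Components.exists_pow_coprime (p := 2) (c : G)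
    refine ⟨k, Subtype.ext ?_⟩
    rw [SubmonoidClass.coe_pow, OneMemClass.coe_one]
    have hcN : (c : G) ^ 2 ^ k ∈ normalizer (V : Set G) := pow_mem c.2.1 _
    have hcC : (c : G) ^ 2 ^ k ∈ centralizer (Pof V : Set G) := pow_mem c.2.2 _
    have hQ : (c : G) ^ 2 ^ k ∈ centralizer (Qof V : Set G) := by
      refine Cfsg.Agent.Components.mem_centralizer_of_mem_centralizer (p := 2) (isPGroup_Pof V)
        (isPGroup_Qof V) ?_ hk ?_ hcC ?_
      · exact (inf_le_left : Pof V ≤ Qof V).trans le_normalizer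
      · rw [mem_normalizer_iff]
        refine fun u => ⟨fun hu => conj_mem_Qof hcN hu, fun hu => ?_⟩
        simpa [mul_assoc] using conj_mem_Qof (inv_mem hcN) hu
      · intro y hy hyc
        exact (hcC y ⟨hy, fun v hv => hyc v (hV.le_Pof hv)⟩).symm
    have hmem := hV.cent _ hcN fun q hq => (hQ q hq).symm
    obtain ⟨j, hj⟩ := (isPGroup_Qof V) ⟨_, hmem⟩
    exact orderOf_eq_one_iff.1 (Nat.eq_one_of_dvd_coprimes (hk.pow_right j) dvd_rfl
      (orderOf_dvd_of_pow_eq_one (congrArg Subtype.val hj)))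

/-- If `V` normalises its conjugate `B` and conversely, they commute. -/
theorem commute_of_normalizes (hV : Setting V) {B : Subgroup G} (hB : Setting B)
    (hcard : Nat.card ↥B = Nat.card ↥V) (hdis : ∀ u, u ∈ V → u ∈ B → u = 1)
    (hBV : B ≤ normalizer (V : Set G)) {v b : G} (hv : v ∈ V) (hb : b ∈ B) : v * b = b * v := by
  -- the part of `V` normalising `B`
  set A := V ⊓ normalizer (B : Set G) with hA
  have hAB : ∀ a ∈ A, ∀ c ∈ B, a * c = c * a := by
    rintro a ⟨haV, haN⟩ c hc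
    have h : a * c * a⁻¹ * c⁻¹ = 1 := by
      refine hdis _ ?_ (B.mul_mem ((mem_normalizer_iff.1 haN c).1 hc) (B.inv_mem hc))
      rw [mul_assoc, mul_assoc, ← mul_assoc c]
      exact V.mul_mem haV ((mem_normalizer_iff.1 (hBV hc) _).1 (V.inv_mem haV))
    rwa [mul_inv_eq_one, mul_inv_eq_iff_eq_mul] at h
  have hmem : ∀ a ∈ V, ∀ c ∈ B, c ≠ 1 → a * c = c * a → a ∈ A := fun a ha c hc hc1 h =>
    ⟨ha, hB.mem_normalizer_of_commute hc hc1 h⟩
  by_contra hne
  have hvA : v ∉ A := fun h => hne (hAB v h b hb)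
  -- `c ↦ c v c⁻¹ v⁻¹` embeds `B` into `A`
  have hcomV : ∀ c ∈ B, c * v * c⁻¹ * v⁻¹ ∈ V := fun c hc =>
    V.mul_mem ((mem_normalizer_iff.1 (hBV hc) v).1 hv) (V.inv_mem hv)
  have hcomA : ∀ c ∈ B, c * v * c⁻¹ * v⁻¹ ∈ A := by
    intro c hc
    by_cases hc1 : c = 1
    · rw [hc1]; simp
    refine hmem _ (hcomV c hc) c hc hc1 ?_
    have hv' : c * v * c⁻¹ ∈ V := (mem_normalizer_iff.1 (hBV hc) v).1 hv
    have e : c * (c * v * c⁻¹ * v⁻¹) * c⁻¹ = c * v * c⁻¹ * v⁻¹ := by
      calc c * (c * v * c⁻¹ * v⁻¹) * c⁻¹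
          = (c * c) * v * (c * c)⁻¹ * (c * v * c⁻¹)⁻¹ := by group
        _ = v * (c * v * c⁻¹) := by rw [hB.sq hc, hV.inv_eq hv']; group
        _ = c * v * c⁻¹ * v := hV.comm hv hv'
        _ = _ := by rw [hV.inv_eq hv]
    exact (mul_inv_eq_iff_eq_mul.1 e).symm
  let f : ↥B → ↥A := fun c => ⟨_, hcomA c c.2⟩
  have hf : Function.Injective f := by
    intro c d h
    have h' : (c : G) * v * (c : G)⁻¹ = d * v * (d : G)⁻¹ := mul_right_cancel (congrArg Subtype.val h :)
    by_contra hcd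
    apply hvA
    refine hmem v hv ((d : G)⁻¹ * c) (B.mul_mem (B.inv_mem d.2) c.2)
      (fun e => hcd (Subtype.ext (inv_mul_eq_one.1 e).symm)) ?_
    symm
    calc (d : G)⁻¹ * c * v = (d : G)⁻¹ * (c * v * (c : G)⁻¹) * c := by group
      _ = _ := by rw [h']; group
  have h1 : Nat.card ↥A < Nat.card ↥V := by
    refine lt_of_le_of_ne (card_le_of_le inf_le_left) fun e => hvA ?_
    exact (eq_of_le_of_card_ge (inf_le_left : A ≤ V) e.ge).symm.le hv
  have h2 := Nat.card_le_card_of_injective f hf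
  omega

end Setting

end Cfsg.Agent.TIRadical
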