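/-
A conjugate `V'` of `V` inside `O_2(N(V))`: the decomposition of `C_Q(V)` and the lines of `V V'`.
Main definitions: `Pair`; main results: `Pair.le_Pof`, `Pair.exists_partner`, `Partner.exists_conj_mul`,
`Partner.eq_of_mem_sup`, `Partner.exists_decomp`, `Partner.centralizer_inf`, `Pair.conj`.
-/
import Cfsg.Agent.Lib.TIRadical.Basic

set_option autoImplicit false

namespace Cfsg.Agent.TIRadical

open Subgroup

variable {G : Type*} [Group G]

/-- `V'` is a conjugate of `V`, different from it, inside `O_2(N(V))`. -/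
structure Pair (V V' : Subgroup G) : Prop where
  left : Setting V
  conjugate : ∃ g : G, cj g V = V'
  ne : V' ≠ V
  le : V' ≤ Qof V

namespace Pair

variable {V V' : Subgroup G}

theorem right (h : Pair V V') : Setting V' := by
  obtain ⟨g, rfl⟩ := h.conjugate
  exact h.left.conj g

theorem card_eq (h : Pair V V') : Nat.card ↥V' = Nat.card ↥V := by
  obtain ⟨g, rfl⟩ := h.conjugate
  exact card_cj g V

/-- Two conjugates of `V` sharing a non-identity element are equal. -/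
theorem eq_of_mem (hV : Setting V) {x y c : G} (hx : c ∈ cj x V) (hy : c ∈ cj y V) (hc : c ≠ 1) :
    cj x V = cj y V := by
  rw [mem_cj] at hx hy
  have h : y⁻¹ * x ∈ normalizer (V : Set G) := by
    refine hV.ti _ _ hx (fun e => hc ?_) ?_
    · rwa [← conj_eq_one_iff (a := x⁻¹), inv_inv]
    · rwa [show y⁻¹ * x * (x⁻¹ * c * x) * (y⁻¹ * x)⁻¹ = y⁻¹ * c * y by group]
  rw [← mul_inv_cancel_left y x, ← cj_cj, cj_eq_self h]

theorem disjoint (h : Pair V V') {u : G} (hu : u ∈ V) (hu' : u ∈ V') : u = 1 := by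
  by_contra hne
  obtain ⟨g, hg⟩ := h.conjugate
  refine h.ne ?_
  rw [← hg]
  exact (eq_of_mem h.left (hg.symm ▸ hu') (x := g) (y := 1) (by rwa [cj_one]) hne).trans (cj_one V)

theorem exists_ne_one (h : Pair V V') : ∃ w ∈ V', w ≠ 1 := by
  by_contra hne
  push Not at hne
  have h1 : V' = ⊥ := (Subgroup.eq_bot_iff_forall _).2 hne
  refine h.ne ?_
  have := h.card_eq
  rw [h1, card_bot] at this
  rw [h1, Subgroup.card_eq_one.1 this.symm]

theorem conj (h : Pair V V') (x : G) : Pair (cj x V) (cj x V') := by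
  obtain ⟨g, hg⟩ := h.conjugate
  refine ⟨h.left.conj x, ⟨x * g * x⁻¹, ?_⟩, fun e => h.ne ?_, ?_⟩
  · rw [cj_cj, inv_mul_cancel_right, ← cj_cj, hg]
  · rw [← cj_one V', ← cj_one V, ← inv_mul_cancel x, ← cj_cj, ← cj_cj, e]
  · rw [← cj_Qof]; exact map_mono h.le

variable [Finite G]

theorem le_Pof (h : Pair V V') : V' ≤ Pof V :=
  le_inf h.le fun _ hb _ ha => h.left.commute_of_normalizes h.right h.card_eq
    (fun _ => h.disjoint) (h.le.trans (Qof_le V)) ha hb

theorem comm (h : Pair V V') {v w : G} (hv : v ∈ V) (hw : w ∈ V') : v * w = w * v :=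
  (h.le_Pof hw).2 v hv

/-- An element of `C_Q(V)` commuting with one non-identity element of `V'` centralises `V'`. -/
theorem commute_of_commute (h : Pair V V') {x w : G} (hx : x ∈ Pof V) (hw : w ∈ V') (hw1 : w ≠ 1)
    (hxw : x * w = w * x) {w' : G} (hw' : w' ∈ V') : x * w' = w' * x := by
  have hN := h.right.mem_normalizer_of_commute hw hw1 hxw
  have h1 : x * w' * x⁻¹ * w'⁻¹ = 1 := h.disjoint (h.left.comm_mem hx (h.le_Pof hw'))
    (V'.mul_mem ((mem_normalizer_iff.1 hN w').1 hw') (V'.inv_mem hw'))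
  rwa [mul_inv_eq_one, mul_inv_eq_iff_eq_mul] at h1

end Pair

/-- A second conjugate in `O_2(N(V))` which does not commute with `V'`. -/
structure Partner (V V' U : Subgroup G) : Prop where
  pair : Pair V V'
  pairU : Pair V U
  noncomm : ∀ u ∈ U, ∀ w ∈ V', u ≠ 1 → w ≠ 1 → u * w ≠ w * u
  conj_mem : ∃ m ∈ normalizer (V : Set G), cj m V' = U

variable {V V' U : Subgroup G} [Finite G]

theorem Pair.exists_partner (h : Pair V V') : ∃ U, Partner V V' U := by
  by_contra hno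
  -- otherwise the conjugates under `N(V)` commute pairwise
  have hcomm : ∀ m ∈ normalizer (V : Set G), ∀ a ∈ cj m V', ∀ b ∈ V', a * b = b * a := by
    intro m hm a ha b hb
    have hPU : Pair V (cj m V') := cj_eq_self hm ▸ h.conj m
    by_contra hab
    refine hno ⟨cj m V', h, hPU, fun u hu w hw hu1 hw1 hc => hab ?_, m, hm, rfl⟩
    -- `u` centralises `V'`, and every element of `V'` centralises `cj m V'`
    have h1 : ∀ w' ∈ V', u * w' = w' * u := fun w' hw' =>
      h.commute_of_commute (hPU.le_Pof hu) hw hw1 hc hw'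
    exact (hPU.commute_of_commute (h.le_Pof hb) hu hu1 (h1 b hb).symm ha).symm
  set S : Set G := {a | ∃ m ∈ normalizer (V : Set G), a ∈ cj m V'} with hS
  have hSP : ∀ a ∈ S, a ∈ Pof V := by
    rintro a ⟨m, hm, ha⟩
    rw [← cj_eq_self hm, ← cj_Pof]
    exact map_mono h.le_Pof ha
  have hSS : ∀ a ∈ S ∪ V, ∀ b ∈ S ∪ V, a * b = b * a := by
    rintro a (ha | ha) b (hb | hb)
    · obtain ⟨m, hm, ha⟩ := ha
      obtain ⟨n, hn, hb⟩ := hb
      rw [mem_cj] at hb
      have h1 : n⁻¹ * a * n ∈ cj (n⁻¹ * m) V' := by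
        rw [mem_cj] at ha ⊢
        simpa [mul_assoc] using ha
      have := hcomm _ (mul_mem (inv_mem hn) hm) _ h1 _ hb
      calc a * b = n * ((n⁻¹ * a * n) * (n⁻¹ * b * n)) * n⁻¹ := by group
        _ = _ := by rw [this]; group
    · exact ((hSP a ha).2 b hb).symm
    · exact (hSP b hb).2 a ha
    · exact h.left.comm ha hb
  have key : closure (S ∪ V) = V := by
    refine h.left.maximal _ (fun v hv => subset_closure (Or.inr hv)) ?_ (isMulCommutative_closure hSS) ?_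
    · rw [closure_le]
      rintro a (ha | ha)
      exacts [Qof_le V (hSP a ha).1, le_normalizer ha]
    · intro m hm a ha
      induction ha using closure_induction with
      | mem a ha =>
        refine subset_closure ?_
        rcases ha with ⟨n, hn, ha⟩ | ha
        · exact Or.inl ⟨m * n, mul_mem hm hn, by rw [← cj_cj]; exact conj_mem_cj ha⟩
        · exact Or.inr ((mem_normalizer_iff.1 hm a).1 ha)
      | one => rw [mul_one, mul_inv_cancel]; exact one_mem _
      | mul a b _ _ ha hb =>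
        rw [show m * (a * b) * m⁻¹ = (m * a * m⁻¹) * (m * b * m⁻¹) by group]; exact mul_mem ha hb
      | inv a _ ha =>
        rw [show m * a⁻¹ * m⁻¹ = (m * a * m⁻¹)⁻¹ by group]; exact inv_mem ha
  obtain ⟨w, hw, hw1⟩ := h.exists_ne_one
  exact hw1 (h.disjoint (key.le (subset_closure (Or.inl ⟨1, one_mem _, by rwa [cj_one]⟩))) hw)

namespace Partner

omit [Finite G] in
/-- The roles of `V'` and its partner can be exchanged. -/
theorem symm (h : Partner V V' U) : Partner V U V' := by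
  obtain ⟨m, hm, e⟩ := h.conj_mem
  refine ⟨h.pairU, h.pair, fun w hw u hu hw1 hu1 => (h.noncomm u hu w hw hu1 hw1).symm,
    m⁻¹, inv_mem hm, ?_⟩
  rw [← e, cj_cj, inv_mul_cancel, cj_one]

omit [Finite G] in
theorem sq (h : Partner V V' U) {u : G} (hu : u ∈ U) : u * u = 1 := h.pairU.right.sq hu

/-- Every product `v w` with `w ∈ V'^#` is conjugate to `w` by an element of `U`. -/
theorem exists_conj_mul (h : Partner V V' U) {v w : G} (hv : v ∈ V) (hw : w ∈ V') (hw1 : w ≠ 1) :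
    ∃ u ∈ U, u * w * u⁻¹ = v * w := by
  let f : ↥U → ↥V := fun u =>
    ⟨(u : G) * w * (u : G)⁻¹ * w⁻¹, h.pair.left.comm_mem (h.pairU.le_Pof u.2) (h.pair.le_Pof hw)⟩
  have hinj : Function.Injective f := by
    intro a b e
    have e' : (a : G) * w * (a : G)⁻¹ = b * w * (b : G)⁻¹ := mul_right_cancel (congrArg Subtype.val e :)
    by_contra hab
    refine h.noncomm ((b : G)⁻¹ * a) (U.mul_mem (U.inv_mem b.2) a.2) w hw
      (fun e1 => hab (Subtype.ext (inv_mul_eq_one.1 e1).symm)) hw1 ?_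
    calc (b : G)⁻¹ * a * w = (b : G)⁻¹ * (a * w * (a : G)⁻¹) * a := by group
      _ = _ := by rw [e']; group
  obtain ⟨⟨u, hu⟩, e⟩ := ((Nat.bijective_iff_injective_and_card f).2 ⟨hinj, h.pairU.card_eq⟩).2 ⟨v, hv⟩
  exact ⟨u, hu, mul_inv_eq_iff_eq_mul.1 (congrArg Subtype.val e)⟩

/-- A conjugate of `V` meeting `V V'` outside `V` is a `U`-conjugate of `V'`. -/
theorem eq_of_mem_mul (h : Partner V V' U) {x v w : G} (hv : v ∈ V) (hw : w ∈ V') (hw1 : w ≠ 1)
    (hx : v * w ∈ cj x V) : ∃ u ∈ U, cj x V = cj u V' := by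
  obtain ⟨u, hu, e⟩ := h.exists_conj_mul hv hw hw1
  obtain ⟨g, hg⟩ := h.pair.conjugate
  refine ⟨u, hu, ?_⟩
  rw [← hg, cj_cj]
  refine Pair.eq_of_mem h.pair.left (c := v * w) hx ?_ fun e1 => hw1 ?_
  · rw [← cj_cj, hg, ← e]; exact conj_mem_cj hw
  · rw [← e] at e1; exact conj_eq_one_iff.1 e1

/-- `C_Q(V) = U C_{C_Q(V)}(V')`. -/
theorem exists_mul (h : Partner V V' U) {x : G} (hx : x ∈ Pof V) :
    ∃ u ∈ U, ∀ w ∈ V', u⁻¹ * x * w = w * (u⁻¹ * x) := by
  obtain ⟨w0, hw0, hw01⟩ := h.pair.exists_ne_one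
  obtain ⟨u, hu, e⟩ := h.exists_conj_mul (h.pair.left.comm_mem hx (h.pair.le_Pof hw0)) hw0 hw01
  refine ⟨u, hu, fun w hw => h.pair.commute_of_commute
    ((Pof V).mul_mem ((Pof V).inv_mem (h.pairU.le_Pof hu)) hx) hw0 hw01 ?_ hw⟩
  have e' : x * w0 * x⁻¹ = u * w0 * u⁻¹ := by
    rw [e, show x * w0 * x⁻¹ * w0⁻¹ * w0 = x * w0 * x⁻¹ by group]
  calc u⁻¹ * x * w0 = u⁻¹ * (x * w0 * x⁻¹) * x := by group
    _ = _ := by rw [e']; group

/-- `C_{C_Q(V)}(C_{C_Q(V)}(V')) ≤ V V'`. -/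
theorem exists_eq_mul (h : Partner V V' U) {d : G} (hd : d ∈ Pof V)
    (hdc : ∀ a ∈ Pof V, (∀ w ∈ V', a * w = w * a) → d * a = a * d) :
    ∃ w ∈ V', ∃ v ∈ V, d = w * v := by
  obtain ⟨w, hw, hwd⟩ := h.symm.exists_mul hd
  refine ⟨w, hw, w⁻¹ * d, h.pair.left.eq_of_central
    ((Pof V).mul_mem ((Pof V).inv_mem (h.pair.le_Pof hw)) hd) (fun x hx => ?_), by group⟩
  obtain ⟨u, hu, hux⟩ := h.exists_mul hx
  have hr : u⁻¹ * x ∈ Pof V := (Pof V).mul_mem ((Pof V).inv_mem (h.pairU.le_Pof hu)) hx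
  have h1 : w⁻¹ * d * (u⁻¹ * x) = u⁻¹ * x * (w⁻¹ * d) := by
    rw [mul_assoc, hdc _ hr hux, ← mul_assoc, ← hux w⁻¹ (V'.inv_mem hw), mul_assoc]
  calc w⁻¹ * d * x = (w⁻¹ * d * u) * (u⁻¹ * x) := by group
    _ = u * (w⁻¹ * d * (u⁻¹ * x)) := by rw [hwd u hu, mul_assoc]
    _ = x * (w⁻¹ * d) := by rw [h1]; group

end Partner

end Cfsg.Agent.TIRadical
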