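/-
`V' ≤ O_2(N(V))` implies `V ≤ O_2(N(V'))`.
Main result: `Pair.symm`.
-/
import Cfsg.Agent.Lib.TIRadical.Lines

set_option autoImplicit false

namespace Cfsg.Agent.TIRadical

open Subgroup

variable {G : Type*} [Group G] [Finite G] {V V' U : Subgroup G}

omit [Finite G] in
theorem exists_mul_of_mem_sup {A B : Subgroup G} (hAB : ∀ a ∈ A, ∀ b ∈ B, a * b = b * a) {x : G}
    (hx : x ∈ A ⊔ B) : ∃ a ∈ A, ∃ b ∈ B, a * b = x := by
  rw [sup_eq_closure] at hx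
  induction hx using closure_induction with
  | mem x hx =>
    rcases hx with hx | hx
    · exact ⟨x, hx, 1, B.one_mem, mul_one x⟩
    · exact ⟨1, A.one_mem, x, hx, one_mul x⟩
  | one => exact ⟨1, A.one_mem, 1, B.one_mem, one_mul 1⟩
  | mul x y _ _ hx hy =>
    obtain ⟨a, ha, b, hb, rfl⟩ := hx
    obtain ⟨c, hc, d, hd, rfl⟩ := hy
    refine ⟨a * c, A.mul_mem ha hc, b * d, B.mul_mem hb hd, ?_⟩
    calc a * c * (b * d) = a * (c * b) * d := by group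
      _ = _ := by rw [hAB c hc b hb]; group
  | inv x _ hx =>
    obtain ⟨a, ha, b, hb, rfl⟩ := hx
    exact ⟨a⁻¹, A.inv_mem ha, b⁻¹, B.inv_mem hb, by
      rw [hAB _ (A.inv_mem ha) _ (B.inv_mem hb), mul_inv_rev]⟩

namespace Partner

/-- An element of `N(V')` moving `V` into `V V'` gives `V ≤ O_2(N(V'))`. -/
theorem le_Qof_of_move (h : Partner V V' U) {y v c : G} (hy : y ∈ normalizer (V' : Set G))
    (hv : v ∈ V) (hc : c ∈ V') (hc1 : c ≠ 1) (hyv : v * c ∈ cj y V) : V ≤ Qof V' := by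
  obtain ⟨u, hu, e⟩ := h.eq_of_mem_mul hv hc hc1 hyv
  have h1 : V' ≤ Qof (cj u V') := by
    have := map_mono (f := (MulAut.conj y).toMonoidHom) h.pair.le
    change cj y V' ≤ cj y (Qof V) at this
    rwa [cj_Qof, e, cj_eq_self hy] at this
  have h2 : cj u V' ≤ Qof V' := by
    have := map_mono (f := (MulAut.conj u).toMonoidHom) h1
    change cj u V' ≤ cj u (Qof (cj u V')) at this
    rwa [cj_Qof, cj_cj u u, h.sq hu, cj_one] at this
  have h3 := map_mono (f := (MulAut.conj y⁻¹).toMonoidHom) h2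
  change cj y⁻¹ (cj u V') ≤ cj y⁻¹ (Qof V') at h3
  rwa [cj_Qof, cj_eq_self (inv_mem hy), ← e, cj_cj, inv_mul_cancel, cj_one] at h3

end Partner

/-- `C_Q(V)` is covered by two elementary abelian halves. -/
def Halves (A : Subgroup G) : Prop :=
  ∃ A1 A2 : Subgroup G, (∀ a ∈ A1, a ∈ Pof A ∧ a * a = 1) ∧ (∀ a ∈ A2, a ∈ Pof A ∧ a * a = 1) ∧
    (∀ x ∈ Pof A, x * x = 1 → x ∈ A1 ∨ x ∈ A2) ∧
    (∀ x ∈ Pof A, ∃ a ∈ A1, ∃ b ∈ A2, x = a * b) ∧
    (∀ a ∈ A1, ∀ b ∈ A2, a * b = b * a → a ∈ A ∨ b ∈ A) ∧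
    (∃ a ∈ A1, a ∉ A) ∧ ∃ b ∈ A2, b ∉ A

omit [Finite G] in
theorem Halves.conj {A : Subgroup G} (h : Halves A) (x : G) : Halves (cj x A) := by
  obtain ⟨A1, A2, h1, h2, h3, h4, h5, ⟨a, ha, ha'⟩, ⟨b, hb, hb'⟩⟩ := h
  have key : ∀ B : Subgroup G, (∀ a ∈ B, a ∈ Pof A ∧ a * a = 1) →
      ∀ a ∈ cj x B, a ∈ Pof (cj x A) ∧ a * a = 1 := by
    intro B hB a ha
    rw [mem_cj] at ha
    refine ⟨by rw [← cj_Pof, mem_cj]; exact (hB _ ha).1, ?_⟩
    rw [← conj_eq_one_iff (a := x⁻¹)]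
    calc x⁻¹ * (a * a) * x⁻¹⁻¹ = (x⁻¹ * a * x) * (x⁻¹ * a * x) := by group
      _ = 1 := (hB _ ha).2
  refine ⟨cj x A1, cj x A2, key _ h1, key _ h2, ?_, ?_, ?_, ⟨_, conj_mem_cj ha, ?_⟩,
    ⟨_, conj_mem_cj hb, ?_⟩⟩
  · intro y hy hyy
    rw [← cj_Pof, mem_cj] at hy
    rw [mem_cj, mem_cj]
    refine h3 _ hy ?_
    rw [show x⁻¹ * y * x * (x⁻¹ * y * x) = x⁻¹ * (y * y) * x by group, hyy]
    group
  · intro y hy
    rw [← cj_Pof, mem_cj] at hy
    obtain ⟨c, hc, d, hd, e⟩ := h4 _ hy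
    refine ⟨_, conj_mem_cj hc, _, conj_mem_cj hd, ?_⟩
    calc y = x * (x⁻¹ * y * x) * x⁻¹ := by group
      _ = _ := by rw [e]; group
  · intro c hc d hd hcd
    rw [mem_cj] at hc hd
    simp only [mem_cj]
    refine h5 _ hc _ hd ?_
    rw [show x⁻¹ * c * x * (x⁻¹ * d * x) = x⁻¹ * (c * d) * x by group, hcd]
    group
  · rwa [mem_cj, show x⁻¹ * (x * a * x⁻¹) * x = a by group]
  · rwa [mem_cj, show x⁻¹ * (x * b * x⁻¹) * x = b by group]

namespace Partner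

theorem halves (h : Partner V V' U)
    (hsq : ∀ a ∈ Pof V, (∀ w ∈ V', a * w = w * a) → a * a = 1) : Halves V := by
  have hab : ∀ a ∈ Pof V, (∀ w ∈ V', a * w = w * a) → ∀ b ∈ Pof V, (∀ w ∈ V', b * w = w * b) →
      a * b = b * a := by
    intro a ha hac b hb hbc
    have e : a * b * (a * b) = 1 := hsq _ ((Pof V).mul_mem ha hb) fun w hw => by
      rw [mul_assoc, hbc w hw, ← mul_assoc, hac w hw, mul_assoc]
    rw [← inv_eq_of_mul_eq_one_right e, mul_inv_rev, inv_eq_of_mul_eq_one_right (hsq a ha hac),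
      inv_eq_of_mul_eq_one_right (hsq b hb hbc)]
  have hmem1 : ∀ a ∈ V ⊔ V', ∃ v ∈ V, ∃ w ∈ V', v * w = a := fun a ha =>
    exists_mul_of_mem_sup (fun v hv w hw => h.pair.comm hv hw) ha
  have hmem2 : ∀ a ∈ V ⊔ U, ∃ v ∈ V, ∃ u ∈ U, v * u = a := fun a ha =>
    exists_mul_of_mem_sup (fun v hv u hu => h.pairU.comm hv hu) ha
  have hgood : ∀ (B : Subgroup G) (hB : Pair V B), ∀ v ∈ V, ∀ b ∈ B,
      v * b ∈ Pof V ∧ v * b * (v * b) = 1 := fun B hB v hv b hb => by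
    refine ⟨(Pof V).mul_mem (h.pair.left.le_Pof hv) (hB.le_Pof hb), ?_⟩
    calc v * b * (v * b) = v * (b * v) * b := by group
      _ = (v * v) * (b * b) := by rw [← hB.comm hv hb]; group
      _ = 1 := by rw [h.pair.left.sq hv, hB.right.sq hb, one_mul]
  -- every element of `Pof V` is `u w v`
  have hdec : ∀ x ∈ Pof V, ∃ u ∈ U, ∃ w ∈ V', ∃ v ∈ V, x = u * (w * v) := by
    intro x hx
    obtain ⟨u, hu, hux⟩ := h.exists_mul hx
    have hr := (Pof V).mul_mem ((Pof V).inv_mem (h.pairU.le_Pof hu)) hx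
    obtain ⟨w, hw, v, hv, e⟩ := h.exists_eq_mul hr fun a ha hac => hab _ hr hux a ha hac
    exact ⟨u, hu, w, hw, v, hv, by rw [← e]; group⟩
  have hcu : ∀ u ∈ U, ∀ w ∈ V', ∀ v ∈ V, u * (w * v) = v * (u * w) := fun u hu w hw v hv => by
    rw [← h.pair.comm hv hw, ← mul_assoc, ← h.pairU.comm hv hu, mul_assoc]
  refine ⟨V ⊔ V', V ⊔ U, ?_, ?_, ?_, ?_, ?_, ?_, ?_⟩
  · intro a ha
    obtain ⟨v, hv, w, hw, rfl⟩ := hmem1 a ha
    exact hgood V' h.pair v hv w hw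
  · intro a ha
    obtain ⟨v, hv, u, hu, rfl⟩ := hmem2 a ha
    exact hgood U h.pairU v hv u hu
  · intro x hx hxx
    obtain ⟨u, hu, w, hw, v, hv, rfl⟩ := hdec x hx
    rw [hcu u hu w hw v hv] at hxx ⊢
    have huw : u * w ∈ Pof V := (Pof V).mul_mem (h.pairU.le_Pof hu) (h.pair.le_Pof hw)
    have e : u * w * (u * w) = 1 := by
      rw [← hxx]
      calc u * w * (u * w) = (v * v) * (u * w * (u * w)) := by rw [h.pair.left.sq hv, one_mul]
        _ = v * (v * (u * w)) * (u * w) := by group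
        _ = v * ((u * w) * v) * (u * w) := by rw [huw.2 v hv]
        _ = _ := by group
    by_cases hu1 : u = 1
    · left; rw [hu1, one_mul]; exact mul_mem (mem_sup_left hv) (mem_sup_right hw)
    by_cases hw1 : w = 1
    · right; rw [hw1, mul_one]; exact mul_mem (mem_sup_left hv) (mem_sup_right hu)
    refine absurd ?_ (h.noncomm u hu w hw hu1 hw1)
    rw [← inv_eq_of_mul_eq_one_right e, mul_inv_rev, inv_eq_of_mul_eq_one_right (h.sq hu),
      inv_eq_of_mul_eq_one_right (h.pair.right.sq hw)]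
  · intro x hx
    obtain ⟨u, hu, w, hw, v, hv, rfl⟩ := hdec x hx
    have hc : ∃ c ∈ V, c = u * w * u⁻¹ * w⁻¹ :=
      ⟨_, h.pair.left.comm_mem (h.pairU.le_Pof hu) (h.pair.le_Pof hw), rfl⟩
    obtain ⟨c, hcV, hc⟩ := hc
    refine ⟨v * c * w, mul_mem (mem_sup_left (V.mul_mem hv hcV)) (mem_sup_right hw), u,
      mem_sup_right hu, ?_⟩
    rw [hcu u hu w hw v hv, hc]; group
  · intro a ha b hb hc
    obtain ⟨v, hv, w, hw, rfl⟩ := hmem1 a ha
    obtain ⟨v2, hv2, u, hu, rfl⟩ := hmem2 b hb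
    by_cases hw1 : w = 1
    · left; rwa [hw1, mul_one]
    by_cases hu1 : u = 1
    · right; rwa [hu1, mul_one]
    refine absurd ?_ (h.noncomm u hu w hw hu1 hw1)
    have hP1 : v * v2 = v2 * v := h.pair.left.comm hv hv2
    have e1 : v * w * (v2 * u) = v * v2 * (w * u) := by
      calc v * w * (v2 * u) = v * (w * v2) * u := by group
        _ = _ := by rw [← h.pair.comm hv2 hw]; group
    have e2 : v2 * u * (v * w) = v2 * v * (u * w) := by
      calc v2 * u * (v * w) = v2 * (u * v) * w := by group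
        _ = _ := by rw [← h.pairU.comm hv hu]; group
    rw [e1, e2, hP1] at hc
    exact (mul_left_cancel hc).symm
  · obtain ⟨w, hw, hw1⟩ := h.pair.exists_ne_one
    exact ⟨w, mem_sup_right hw, fun hwV => hw1 (h.pair.disjoint hwV hw)⟩
  · obtain ⟨u, hu, hu1⟩ := h.pairU.exists_ne_one
    exact ⟨u, mem_sup_right hu, fun huV => hu1 (h.pairU.disjoint huV hu)⟩

end Partner

/-- Hypothesis of the indirect argument: no `y ∈ P(V')` moves `V` into `V V'`. -/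
def NoMove (V V' : Subgroup G) : Prop :=
  ∀ y ∈ Pof V', ∀ v ∈ V, v * y * v⁻¹ * y⁻¹ ∈ V' → v * y * v⁻¹ * y⁻¹ = 1

theorem Pair.mem_normalizer_right (h : Pair V V') {v : G} (hv : v ∈ V) :
    v ∈ normalizer (V' : Set G) := by
  obtain ⟨w, hw, hw1⟩ := h.exists_ne_one
  exact h.right.mem_normalizer_of_commute hw hw1 (h.comm hv hw)

theorem Pair.disp_mem (h : Pair V V') {v y : G} (hv : v ∈ V) (hy : y ∈ Pof V') :
    v * y * v⁻¹ * y⁻¹ ∈ Pof V' :=
  (Pof V').mul_mem (Setting.normalizer_conj_mem_Pof (h.mem_normalizer_right hv) hy) ((Pof V').inv_mem hy)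

theorem NoMove.eq_one (hH : NoMove V V') (h : Pair V V') {v : G} (hv : v ∈ V) (hvP : v ∈ Pof V') :
    v = 1 := by
  refine h.disjoint hv (h.right.eq_of_central hvP fun y hy => ?_)
  have := hH y hy v hv (h.right.comm_mem hvP hy)
  rwa [mul_inv_eq_one, mul_inv_eq_iff_eq_mul] at this

/-- Centralising one element of `V^#` inside `C_{Q'}(V')` forces centralising all of `V`. -/
theorem NoMove.commute (hH : NoMove V V') (h : Pair V V') {v y : G} (hv : v ∈ V) (hv1 : v ≠ 1)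
    (hy : y ∈ Pof V') (hvy : y * v = v * y) {v' : G} (hv' : v' ∈ V) : y * v' = v' * y := by
  have hN := h.left.mem_normalizer_of_commute hv hv1 hvy
  have h1 : v' * y * v'⁻¹ * y⁻¹ = 1 := by
    refine hH.eq_one h ?_ (h.disp_mem hv' hy)
    rw [mul_assoc, mul_assoc, ← mul_assoc y]
    exact V.mul_mem hv' ((mem_normalizer_iff.1 hN _).1 (V.inv_mem hv'))
  rw [mul_inv_eq_one, mul_inv_eq_iff_eq_mul] at h1
  exact h1.symm

theorem NoMove.le_Qof (hH : NoMove V V') (h : Pair V V') {v : G} (hv : v ∈ V) (hv1 : v ≠ 1)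
    (hc : ∀ y ∈ Pof V', y * v = v * y) : V ≤ Qof V' := fun v' hv' =>
  h.right.mem_Qof_of_centralizes_Pof (h.mem_normalizer_right hv') fun y hy =>
    (hH.commute h hv hv1 hy (hc y hy) hv').symm

theorem NoMove.disp_involution (hH : NoMove V V') (h : Pair V V') {v y : G} (hv : v ∈ V)
    (hy : y ∈ Pof V') :
    (v * y * v⁻¹ * y⁻¹) * (v * y * v⁻¹ * y⁻¹) = 1 ∧
      (v * y * v⁻¹ * y⁻¹) * v = v * (v * y * v⁻¹ * y⁻¹) := by
  obtain ⟨t, ht, htP⟩ : ∃ t, t = v * y * v⁻¹ * y⁻¹ ∧ t ∈ Pof V' := ⟨_, rfl, h.disp_mem hv hy⟩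
  rw [← ht]
  have hvi := h.left.inv_eq hv
  have e : v * t * v⁻¹ = t⁻¹ := by
    calc v * t * v⁻¹ = (v * v) * y * v⁻¹ * y⁻¹ * v⁻¹ := by rw [ht]; group
      _ = y * v * y⁻¹ * v⁻¹ := by rw [h.left.sq hv, one_mul, hvi]
      _ = _ := by rw [ht]; group
  have htt : t * t ∈ V' := h.right.mul_self_mem htP
  have h1 : v * t * v⁻¹ * t⁻¹ = 1 := hH t htP v hv (by
    rw [e, show t⁻¹ * t⁻¹ = (t * t)⁻¹ by group]; exact V'.inv_mem htt)
  rw [e] at h1
  have h2 : t * t = 1 := by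
    rw [← inv_eq_one, mul_inv_rev]; exact h1
  refine ⟨h2, ?_⟩
  rw [inv_eq_of_mul_eq_one_right h2, mul_inv_eq_iff_eq_mul] at e
  exact e.symm

/-- Elements fixed by `v` are orthogonal to the displacements of `v`. -/
theorem NoMove.perp (_hH : NoMove V V') (h : Pair V V') {v y x : G} (hv : v ∈ V) (hy : y ∈ Pof V')
    (hx : x ∈ Pof V') (hvy : y * v = v * y) :
    y * (v * x * v⁻¹ * x⁻¹) = v * x * v⁻¹ * x⁻¹ * y := by
  obtain ⟨k, hk, hkV⟩ : ∃ k, k = y * x * y⁻¹ * x⁻¹ ∧ k ∈ V' := ⟨_, rfl, h.right.comm_mem hy hx⟩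
  obtain ⟨t, ht⟩ : ∃ t, t = v * x * v⁻¹ * x⁻¹ := ⟨_, rfl⟩
  have hkc : ∀ z ∈ Pof V', z * k = k * z := fun z hz => (hz.2 k hkV).symm
  have hvx : v * x * v⁻¹ = t * x := by rw [ht]; group
  have e1 : y * (t * x) * y⁻¹ = k * (t * x) := by
    have e0 : y * x * y⁻¹ = k * x := by rw [hk]; group
    calc y * (t * x) * y⁻¹ = y * (v * x * v⁻¹) * y⁻¹ := by rw [hvx]
      _ = (y * v) * x * (y * v)⁻¹ := by group
      _ = v * y * x * (v * y)⁻¹ := by rw [hvy]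
      _ = v * (y * x * y⁻¹) * v⁻¹ := by group
      _ = (v * k) * x * v⁻¹ := by rw [e0]; group
      _ = k * (v * x * v⁻¹) := by rw [h.comm hv hkV]; group
      _ = _ := by rw [hvx]
  have e2 : y * (t * x) * y⁻¹ = (y * t * y⁻¹) * (k * x) := by rw [hk]; group
  have htP : t ∈ Pof V' := ht ▸ h.disp_mem hv hx
  have e3 : y * t * y⁻¹ = t := by
    refine mul_right_cancel (b := k * x) ?_
    rw [← e2, e1, ← mul_assoc, ← hkc t htP, mul_assoc]
  rw [← ht]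
  exact mul_inv_eq_iff_eq_mul.1 e3

/-- An element orthogonal to all displacements of `v` is fixed by `v`. -/
theorem NoMove.perp_inv (hH : NoMove V V') (h : Pair V V') {v y : G} (hv : v ∈ V) (hy : y ∈ Pof V')
    (hc : ∀ x ∈ Pof V', y * (v * x * v⁻¹ * x⁻¹) = v * x * v⁻¹ * x⁻¹ * y) : y * v = v * y := by
  obtain ⟨s, hs, hsP⟩ : ∃ s, s = v * y * v⁻¹ * y⁻¹ ∧ s ∈ Pof V' := ⟨_, rfl, h.disp_mem hv hy⟩
  have hsv : s * v = v * s := hs ▸ (hH.disp_involution h hv hy).2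
  have key : s ∈ V' := by
    refine h.right.eq_of_central hsP fun x hx => ?_
    obtain ⟨t, ht, htP⟩ : ∃ t, t = v * x * v⁻¹ * x⁻¹ ∧ t ∈ Pof V' := ⟨_, rfl, h.disp_mem hv hx⟩
    have hst : s * t = t * s := ht ▸ hH.perp h hv hsP hx hsv
    have hyt : y * t = t * y := ht ▸ hc x hx
    obtain ⟨k, hk, hkV⟩ : ∃ k, k = y * x * y⁻¹ * x⁻¹ ∧ k ∈ V' := ⟨_, rfl, h.right.comm_mem hy hx⟩
    have hvy' : v * y * v⁻¹ = s * y := by rw [hs]; group
    have hvx : v * x * v⁻¹ = t * x := by rw [ht]; group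
    have e1 : (s * y) * (t * x) * (s * y)⁻¹ = k * (t * x) := by
      rw [← hvy', ← hvx]
      calc v * y * v⁻¹ * (v * x * v⁻¹) * (v * y * v⁻¹)⁻¹ = v * (y * x * y⁻¹) * v⁻¹ := by group
        _ = v * k * x * v⁻¹ := by rw [hk]; group
        _ = _ := by rw [h.comm hv hkV]; group
    have e2 : (s * y) * (t * x) * (s * y)⁻¹ = t * k * (s * x * s⁻¹) := by
      calc (s * y) * (t * x) * (s * y)⁻¹ = s * (y * t) * x * y⁻¹ * s⁻¹ := by group
        _ = s * t * (y * x * y⁻¹) * s⁻¹ := by rw [hyt]; group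
        _ = t * (s * k) * x * s⁻¹ := by rw [hk, hst]; group
        _ = _ := by rw [← hsP.2 k hkV]; group
    rw [e1, ← mul_assoc, htP.2 k hkV] at e2
    exact (mul_inv_eq_iff_eq_mul.1 (mul_left_cancel e2).symm)
  have h1 : s = 1 := hs.trans (hH y hy v hv (hs ▸ key))
  rw [hs, mul_inv_eq_one, mul_inv_eq_iff_eq_mul] at h1
  exact h1.symm

namespace Partner

/-- Elements of `P ∩ P'` lie in `V'`. -/
theorem mem_of_mem_both (h : Partner V V' U) (hH : NoMove V V') {d : G} (hd : d ∈ Pof V)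
    (hd' : d ∈ Pof V') : d ∈ V' := by
  obtain ⟨w, hw, v, hv, rfl⟩ := h.exists_eq_mul hd fun a ha hac => by
    have haN : a ∈ normalizer (V' : Set G) := by
      obtain ⟨w0, hw0, hw01⟩ := h.pair.exists_ne_one
      exact h.pair.right.mem_normalizer_of_commute hw0 hw01 (hac w0 hw0)
    have h1 : a * d * a⁻¹ * d⁻¹ = 1 := hH.eq_one h.pair (h.pair.left.comm_mem ha hd)
      ((Pof V').mul_mem (Setting.normalizer_conj_mem_Pof haN hd') ((Pof V').inv_mem hd'))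
    rw [mul_inv_eq_one, mul_inv_eq_iff_eq_mul] at h1
    exact h1.symm
  have hv' : v ∈ Pof V' := by
    have := (Pof V').mul_mem ((Pof V').inv_mem (h.pair.right.le_Pof hw)) hd'
    rwa [inv_mul_cancel_left] at this
  rw [hH.eq_one h.pair hv hv', mul_one]
  exact hw

/-- Two elements of `C_P(V')` compose on `P'/V'` by adding displacements. -/
theorem conj_conj (h : Partner V V' U) (hH : NoMove V V') {v0 : G} (hv0 : v0 ∈ V) (hv01 : v0 ≠ 1)
    {a b : G} (ha : a ∈ Pof V) (hac : ∀ w ∈ V', a * w = w * a) (hb : b ∈ Pof V)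
    (hbc : ∀ w ∈ V', b * w = w * b) {x : G} (hx : x ∈ Pof V') :
    ∃ ta ∈ Pof V', ∃ tb ∈ Pof V', ta = a * x * a⁻¹ * x⁻¹ ∧ tb = b * x * b⁻¹ * x⁻¹ ∧
      ∃ c ∈ V', a * (b * x * b⁻¹) * a⁻¹ = c * (tb * ta) * x := by
  have hN : ∀ r : G, (∀ w ∈ V', r * w = w * r) → r ∈ normalizer (V' : Set G) := fun r hr => by
    obtain ⟨w0, hw0, hw01⟩ := h.pair.exists_ne_one
    exact h.pair.right.mem_normalizer_of_commute hw0 hw01 (hr w0 hw0)
  have hP : ∀ r : G, (∀ w ∈ V', r * w = w * r) → ∀ z ∈ Pof V', r * z * r⁻¹ * z⁻¹ ∈ Pof V' :=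
    fun r hr z hz => (Pof V').mul_mem (Setting.normalizer_conj_mem_Pof (hN r hr) hz) ((Pof V').inv_mem hz)
  -- on fixed points of `V` the displacement lies in `V'`
  have hfix : ∀ y ∈ Pof V', y * v0 = v0 * y → ∀ r ∈ Pof V, (∀ w ∈ V', r * w = w * r) →
      r * y * r⁻¹ * y⁻¹ ∈ V' := by
    intro y hy hy0 r hr hrc
    refine h.mem_of_mem_both hH ?_ (hP r hrc y hy)
    have hyN := h.pair.left.mem_normalizer_of_commute hv0 hv01 hy0
    rw [show r * y * r⁻¹ * y⁻¹ = r * (y * r⁻¹ * y⁻¹) by group]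
    exact (Pof V).mul_mem hr (Setting.normalizer_conj_mem_Pof hyN ((Pof V).inv_mem hr))
  -- displacements are fixed by `v0`
  obtain ⟨tb, htb⟩ : ∃ t, t = b * x * b⁻¹ * x⁻¹ := ⟨_, rfl⟩
  have htbP : tb ∈ Pof V' := htb ▸ hP b hbc x hx
  have htb0 : tb * v0 = v0 * tb := by
    refine hH.perp_inv h.pair hv0 htbP fun z hz => ?_
    obtain ⟨t, ht, htP⟩ : ∃ t, t = v0 * z * v0⁻¹ * z⁻¹ ∧ t ∈ Pof V' := ⟨_, rfl, h.pair.disp_mem hv0 hz⟩
    rw [← ht]
    have htv : t * v0 = v0 * t := ht ▸ (hH.disp_involution h.pair hv0 hz).2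
    obtain ⟨c, hc, hcV⟩ : ∃ c, c = b * t * b⁻¹ * t⁻¹ ∧ c ∈ V' := ⟨_, rfl, hfix t htP htv b hb hbc⟩
    obtain ⟨k, hk, hkV⟩ : ∃ k, k = x * t * x⁻¹ * t⁻¹ ∧ k ∈ V' :=
      ⟨_, rfl, h.pair.right.comm_mem hx htP⟩
    have hbt : b * t * b⁻¹ = c * t := by rw [hc]; group
    have hxt : x * t * x⁻¹ = k * t := by rw [hk]; group
    have hbx : b * x * b⁻¹ ∈ Pof V' := Setting.normalizer_conj_mem_Pof (hN b hbc) hx
    have e1 : (b * x * b⁻¹) * (c * t) * (b * x * b⁻¹)⁻¹ = k * (c * t) := by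
      rw [← hbt]
      calc b * x * b⁻¹ * (b * t * b⁻¹) * (b * x * b⁻¹)⁻¹ = b * (x * t * x⁻¹) * b⁻¹ := by group
        _ = b * k * t * b⁻¹ := by rw [hxt]; group
        _ = _ := by rw [hbc k hkV]; group
    have e2 : (b * x * b⁻¹) * t * (b * x * b⁻¹)⁻¹ = k * t := by
      refine mul_left_cancel (a := c) ?_
      calc c * (b * x * b⁻¹ * t * (b * x * b⁻¹)⁻¹)
          = (c * (b * x * b⁻¹)) * t * (b * x * b⁻¹)⁻¹ := by group
        _ = b * x * b⁻¹ * (c * t) * (b * x * b⁻¹)⁻¹ := by rw [hbx.2 c hcV]; group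
        _ = c * (k * t) := by rw [e1, ← mul_assoc, ← mul_assoc, h.pair.right.comm hkV hcV]
    calc tb * t = b * x * b⁻¹ * (x⁻¹ * t * x) * x⁻¹ := by rw [htb]; group
      _ = b * x * b⁻¹ * (k⁻¹ * t) * x⁻¹ := by
          have hxt' : x⁻¹ * t * x = k⁻¹ * t := by
            refine mul_left_cancel (a := k) ?_
            calc k * (x⁻¹ * t * x) = (k * x⁻¹) * t * x := by group
              _ = x⁻¹ * (k * t) * x := by rw [((Pof V').inv_mem hx).2 k hkV]; group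
              _ = k * (k⁻¹ * t) := by rw [← hxt]; group
          rw [hxt']
      _ = k⁻¹ * (b * x * b⁻¹ * t) * x⁻¹ := by
          rw [← mul_assoc (b * x * b⁻¹), ← hbx.2 k⁻¹ (V'.inv_mem hkV)]; group
      _ = k⁻¹ * (k * t * (b * x * b⁻¹)) * x⁻¹ := by rw [← mul_inv_eq_iff_eq_mul.1 e2]
      _ = t * tb := by rw [htb]; group
  obtain ⟨ta, hta⟩ : ∃ t, t = a * x * a⁻¹ * x⁻¹ := ⟨_, rfl⟩
  refine ⟨ta, hta ▸ hP a hac x hx, tb, htbP, hta, htb, a * tb * a⁻¹ * tb⁻¹,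
    hfix tb htbP htb0 a ha hac, ?_⟩
  rw [hta, htb]; group

theorem centralizes_commutator (h : Partner V V' U) (hH : NoMove V V') {a b : G} (ha : a ∈ Pof V)
    (hac : ∀ w ∈ V', a * w = w * a) (hb : b ∈ Pof V) (hbc : ∀ w ∈ V', b * w = w * b)
    (hne : a * b * a⁻¹ * b⁻¹ ≠ 1) {x : G} (hx : x ∈ Pof V') :
    x * (a * b * a⁻¹ * b⁻¹) = a * b * a⁻¹ * b⁻¹ * x := by
  obtain ⟨v, hv, hvV⟩ : ∃ v, v = a * b * a⁻¹ * b⁻¹ ∧ v ∈ V := ⟨_, rfl, h.pair.left.comm_mem ha hb⟩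
  rw [← hv] at hne ⊢
  obtain ⟨x', hx', hx'P⟩ : ∃ x', x' = (b * a)⁻¹ * x * (b * a) ∧ x' ∈ Pof V' := by
    refine ⟨_, rfl, ?_⟩
    obtain ⟨w0, hw0, hw01⟩ := h.pair.exists_ne_one
    have hN : b * a ∈ normalizer (V' : Set G) :=
      mul_mem (h.pair.right.mem_normalizer_of_commute hw0 hw01 (hbc w0 hw0))
        (h.pair.right.mem_normalizer_of_commute hw0 hw01 (hac w0 hw0))
    simpa using Setting.normalizer_conj_mem_Pof (inv_mem hN) hx
  obtain ⟨ta, htaP, tb, htbP, hta, htb, c1, hc1, e1⟩ := h.conj_conj hH hvV hne ha hac hb hbc hx'P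
  obtain ⟨tb', -, ta', -, htb', hta', c2, hc2, e2⟩ := h.conj_conj hH hvV hne hb hbc ha hac hx'P
  rw [hta'.trans hta.symm, htb'.trans htb.symm] at e2
  obtain ⟨c3, hc3, hc3V⟩ : ∃ c3, c3 = tb * ta * tb⁻¹ * ta⁻¹ ∧ c3 ∈ V' :=
    ⟨_, rfl, h.pair.right.comm_mem htbP htaP⟩
  have hL : v * x * v⁻¹ = a * (b * x' * b⁻¹) * a⁻¹ := by rw [hv, hx']; group
  have hR : x = b * (a * x' * a⁻¹) * b⁻¹ := by rw [hx']; group
  have hmem : v * x * v⁻¹ * x⁻¹ ∈ V' := by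
    rw [hL, e1]
    conv in x⁻¹ => rw [hR, e2]
    rw [show c1 * (tb * ta) * x' * (c2 * (ta * tb) * x')⁻¹ = c1 * c3 * c2⁻¹ by rw [hc3]; group]
    exact V'.mul_mem (V'.mul_mem hc1 hc3V) (V'.inv_mem hc2)
  have := hH x hx v hvV hmem
  rw [mul_inv_eq_one, mul_inv_eq_iff_eq_mul] at this
  exact this.symm

theorem centralizes_square (h : Partner V V' U) (hH : NoMove V V') {a : G} (ha : a ∈ Pof V)
    (hac : ∀ w ∈ V', a * w = w * a) (hne : a * a ≠ 1) {x : G} (hx : x ∈ Pof V') :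
    x * (a * a) = a * a * x := by
  have hvV := h.pair.left.mul_self_mem ha
  obtain ⟨ta, htaP, tb, -, hta, htb, c, hc, e⟩ := h.conj_conj hH hvV hne ha hac ha hac hx
  obtain rfl : tb = ta := htb.trans hta.symm
  have hmem : a * a * x * (a * a)⁻¹ * x⁻¹ ∈ V' := by
    rw [show a * a * x * (a * a)⁻¹ = a * (a * x * a⁻¹) * a⁻¹ by group, e,
      show c * (tb * tb) * x * x⁻¹ = c * (tb * tb) by group]
    exact V'.mul_mem hc (h.pair.right.mul_self_mem htaP)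
  have := hH x hx (a * a) hvV hmem
  rw [mul_inv_eq_one, mul_inv_eq_iff_eq_mul] at this
  exact this.symm

/-- In the elementary case an element of `V` centralises `C_{Q'}(V')`. -/
theorem centralizes_halves (h : Partner V V' U) (hH : NoMove V V') (hh : Halves V') {v : G}
    (hv : v ∈ V) {x : G} (hx : x ∈ Pof V') : x * v = v * x := by
  obtain ⟨A1, A2, hA1, hA2, hinv, hcov, hnc, hA1ne, hA2ne⟩ := hh
  have hvN := h.pair.mem_normalizer_right hv
  -- the displacement of an involution stays in its half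
  have hhalf : ∀ (B B' : Subgroup G), (∀ a ∈ B, a ∈ Pof V' ∧ a * a = 1) →
      (∀ x ∈ Pof V', x * x = 1 → x ∈ B ∨ x ∈ B') →
      (∀ a ∈ B, ∀ b ∈ B', a * b = b * a → a ∈ V' ∨ b ∈ V') →
      ∀ a ∈ B, v * a * v⁻¹ * a⁻¹ ∈ B := by
    intro B B' hB hBB hBnc a ha
    by_cases haV : a ∈ V'
    · rw [h.pair.comm hv haV, mul_inv_cancel_right, mul_inv_cancel]; exact B.one_mem
    obtain ⟨haP, ha2⟩ := hB a ha
    have hbP : v * a * v⁻¹ ∈ Pof V' := Setting.normalizer_conj_mem_Pof hvN haP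
    have hb2 : v * a * v⁻¹ * (v * a * v⁻¹) = 1 := by
      rw [show v * a * v⁻¹ * (v * a * v⁻¹) = v * (a * a) * v⁻¹ by group, ha2, mul_one, mul_inv_cancel]
    rcases hBB _ hbP hb2 with hb | hb
    · exact B.mul_mem hb (B.inv_mem ha)
    exfalso
    have ht2 := (hH.disp_involution h.pair hv haP).1
    rw [inv_eq_of_mul_eq_one_right ha2] at ht2
    have hcomm : a * (v * a * v⁻¹) = v * a * v⁻¹ * a := by
      rw [← inv_eq_of_mul_eq_one_right ht2, mul_inv_rev, inv_eq_of_mul_eq_one_right ha2,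
        inv_eq_of_mul_eq_one_right hb2]
    rcases hBnc a ha _ hb hcomm with e | e
    · exact haV e
    · apply haV
      have e' := V'.mul_mem e (V'.one_mem)
      have : a = v⁻¹ * (v * a * v⁻¹) * v := by group
      rw [this, mul_assoc, ← h.pair.comm hv e, inv_mul_cancel_left]
      exact e
  have ht1 := hhalf A1 A2 hA1 hinv hnc
  have ht2 := hhalf A2 A1 hA2 (fun x hx hxx => (hinv x hx hxx).symm)
    fun a ha b hb hab => (hnc b hb a ha hab.symm).symm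
  have hfix : ∀ a ∈ Pof V', v * a * v⁻¹ * a⁻¹ ∈ V' → a * v = v * a := by
    intro a ha hm
    have := hH a ha v hv hm
    rw [mul_inv_eq_one, mul_inv_eq_iff_eq_mul] at this
    exact this.symm
  have hone : ∀ a ∈ A1, ∀ b ∈ A2, a * v = v * a ∨ b * v = v * b := by
    intro a ha b hb
    obtain ⟨haP, -⟩ := hA1 a ha
    obtain ⟨hbP, -⟩ := hA2 b hb
    obtain ⟨s1, hs1, hs1A⟩ : ∃ s, s = v * a * v⁻¹ * a⁻¹ ∧ s ∈ A1 := ⟨_, rfl, ht1 a ha⟩
    obtain ⟨s2, hs2, hs2A⟩ : ∃ s, s = v * b * v⁻¹ * b⁻¹ ∧ s ∈ A2 := ⟨_, rfl, ht2 b hb⟩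
    obtain ⟨k, hk, hkV⟩ : ∃ k, k = a * s2 * a⁻¹ * s2⁻¹ ∧ k ∈ V' :=
      ⟨_, rfl, h.pair.right.comm_mem haP (hA2 s2 hs2A).1⟩
    have e : v * (a * b) * v⁻¹ * (a * b)⁻¹ = k * (s1 * s2) := by
      calc v * (a * b) * v⁻¹ * (a * b)⁻¹ = s1 * (a * s2 * a⁻¹) := by rw [hs1, hs2]; group
        _ = s1 * k * s2 := by rw [hk]; group
        _ = _ := by rw [← (hA1 s1 hs1A).1.2 k hkV, mul_assoc]
    have h2 := (hH.disp_involution h.pair hv ((Pof V').mul_mem haP hbP)).1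
    rw [e] at h2
    have hs12 : s1 * s2 * (s1 * s2) = 1 := by
      have hc := ((Pof V').mul_mem (hA1 s1 hs1A).1 (hA2 s2 hs2A).1).2 k hkV
      calc s1 * s2 * (s1 * s2) = (k * k) * (s1 * s2 * (s1 * s2)) := by
            rw [h.pair.right.sq hkV, one_mul]
        _ = k * (k * (s1 * s2)) * (s1 * s2) := by group
        _ = k * (s1 * s2 * k) * (s1 * s2) := by rw [hc]
        _ = k * (s1 * s2) * (k * (s1 * s2)) := by group
        _ = 1 := h2
    have hcomm : s1 * s2 = s2 * s1 := by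
      rw [← inv_eq_of_mul_eq_one_right hs12, mul_inv_rev, inv_eq_of_mul_eq_one_right (hA1 s1 hs1A).2,
        inv_eq_of_mul_eq_one_right (hA2 s2 hs2A).2]
    rcases hnc s1 hs1A s2 hs2A hcomm with hs | hs
    · exact Or.inl (hfix a haP (hs1 ▸ hs))
    · exact Or.inr (hfix b hbP (hs2 ▸ hs))
  -- `v` centralises one half, hence both
  have key : ∀ (B B' : Subgroup G), (∀ a ∈ B', a ∈ Pof V' ∧ a * a = 1) →
      (∀ b ∈ B', v * b * v⁻¹ * b⁻¹ ∈ B') →
      (∀ a ∈ B, ∀ b ∈ B', a * b = b * a → a ∈ V' ∨ b ∈ V') → (∀ a ∈ B, a ∈ Pof V') →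
      (∃ a ∈ B, a ∉ V') → (∀ a ∈ B, a * v = v * a) → ∀ b ∈ B', b * v = v * b := by
    intro B B' hB' hBt hBnc hBP hBne hBfix b hb
    obtain ⟨a, ha, haV⟩ := hBne
    refine hfix b (hB' b hb).1 ((hBnc a ha _ (hBt b hb) ?_).resolve_left haV)
    exact hH.perp h.pair hv (hBP a ha) (hB' b hb).1 (hBfix a ha)
  have hboth : (∀ a ∈ A1, a * v = v * a) ∧ ∀ b ∈ A2, b * v = v * b := by
    by_cases hall : ∀ a ∈ A1, a * v = v * a
    · exact ⟨hall, key A1 A2 hA2 ht2 hnc (fun a ha => (hA1 a ha).1) hA1ne hall⟩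
    · push Not at hall
      obtain ⟨a, ha, hne⟩ := hall
      have hb : ∀ b ∈ A2, b * v = v * b := fun b hb => (hone a ha b hb).resolve_left hne
      exact ⟨key A2 A1 hA1 ht1 (fun b hb c hc e => (hnc c hc b hb e.symm).symm)
        (fun b hb => (hA2 b hb).1) hA2ne hb, hb⟩
  obtain ⟨a, ha, b, hb, rfl⟩ := hcov x hx
  rw [mul_assoc, hboth.2 b hb, ← mul_assoc, hboth.1 a ha, mul_assoc]

end Partner

/-- `V' ≤ O_2(N(V))` implies `V ≤ O_2(N(V'))`. -/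
theorem Pair.le_Qof_swap (h : Pair V V') : V ≤ Qof V' := by
  obtain ⟨U, hU⟩ := h.exists_partner
  by_cases hH : NoMove V V'
  swap
  · unfold NoMove at hH
    push Not at hH
    obtain ⟨y, hy, v, hv, hc, hc1⟩ := hH
    refine hU.le_Qof_of_move (Qof_le V' hy.1) hv hc hc1 ?_
    rw [mem_cj, show y⁻¹ * (v * (v * y * v⁻¹ * y⁻¹)) * y = y⁻¹ * (v * v) * y * v⁻¹ by group,
      h.left.sq hv, mul_one, inv_mul_cancel, one_mul]
    exact V.inv_mem hv
  by_cases hsq : ∀ a ∈ Pof V, (∀ w ∈ V', a * w = w * a) → a * a = 1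
  · obtain ⟨g, hg⟩ := h.conjugate
    have hh : Halves V' := hg ▸ (hU.halves hsq).conj g
    by_cases hV : ∃ v ∈ V, v ≠ 1
    · obtain ⟨v, hv, hv1⟩ := hV
      exact hH.le_Qof h hv hv1 fun y hy => hU.centralizes_halves hH hh hv hy
    · push Not at hV
      intro v hv
      rw [hV v hv]; exact one_mem _
  · push Not at hsq
    obtain ⟨a, ha, hac, hne⟩ := hsq
    exact hH.le_Qof h (h.left.mul_self_mem ha) hne fun y hy => hU.centralizes_square hH ha hac hne hy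

theorem Pair.symm (h : Pair V V') : Pair V' V := by
  obtain ⟨g, hg⟩ := h.conjugate
  exact ⟨h.right, ⟨g⁻¹, by rw [← hg, cj_cj, inv_mul_cancel, cj_one]⟩, h.ne.symm, h.le_Qof_swap⟩

end Cfsg.Agent.TIRadical
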