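/-
The group generated by `C_Q(V)` and `C_{Q'}(V')` on the plane `V V'` is `SL(2, q)`.
Main results: `Pair.le_normalizer_sup`, `Pair.exists_sl2`.
-/
import Cfsg.Agent.Lib.TIRadical.Arrow
import Cfsg.Agent.Lib.SpreadField.SL2

set_option autoImplicit false

namespace Cfsg.Agent.TIRadical

open Subgroup

universe u

variable {G : Type u} [Group G] [Finite G] {V V' U : Subgroup G}

theorem Pair.conj_sup_mem (h : Pair V V') {x s : G} (hx : x ∈ Pof V) (hs : s ∈ V ⊔ V') :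
    x * s * x⁻¹ ∈ V ⊔ V' := by
  obtain ⟨v, hv, w, hw, rfl⟩ := exists_mul_of_mem_sup (fun a ha b hb => h.comm ha hb) hs
  have e : x * (v * w) * x⁻¹ = v * (x * w * x⁻¹ * w⁻¹) * w := by
    calc x * (v * w) * x⁻¹ = (x * v) * w * x⁻¹ := by group
      _ = _ := by rw [← hx.2 v hv]; group
  rw [e]
  exact mul_mem (mem_sup_left (V.mul_mem hv (h.left.comm_mem hx (h.le_Pof hw)))) (mem_sup_right hw)

theorem Pair.Pof_le_normalizer_sup (h : Pair V V') :
    Pof V ≤ normalizer ((V ⊔ V' : Subgroup G) : Set G) := fun x hx => mem_normalizer_iff.2 fun s =>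
  ⟨h.conj_sup_mem hx, fun hs => by
    simpa [mul_assoc] using h.conj_sup_mem ((Pof V).inv_mem hx) hs⟩

theorem Pair.le_normalizer_sup (h : Pair V V') :
    Pof V ⊔ Pof V' ≤ normalizer ((V ⊔ V' : Subgroup G) : Set G) :=
  sup_le h.Pof_le_normalizer_sup (by rw [sup_comm V]; exact h.symm.Pof_le_normalizer_sup)

/-- `w ↦ x w x⁻¹ w⁻¹` from `V'` to `V`, for `x ∈ C_Q(V)`. -/
def Pair.disp (h : Pair V V') (x : ↥(Pof V)) : ↥V' →* ↥V :=
  MonoidHom.mk' (fun w => ⟨(x : G) * w * (x : G)⁻¹ * (w : G)⁻¹, h.left.comm_mem x.2 (h.le_Pof w.2)⟩)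
    fun a b => Subtype.ext (by
      have hc := h.comm (h.left.comm_mem x.2 (h.le_Pof b.2)) (V'.inv_mem a.2)
      calc (x : G) * ((a : G) * b) * (x : G)⁻¹ * ((a : G) * b)⁻¹
          = (x : G) * a * (x : G)⁻¹ * ((x : G) * b * (x : G)⁻¹ * (b : G)⁻¹ * (a : G)⁻¹) := by group
        _ = (x : G) * a * (x : G)⁻¹ * (a : G)⁻¹ * ((x : G) * b * (x : G)⁻¹ * (b : G)⁻¹) := by
            rw [hc]; group)

theorem Pair.disp_mul (h : Pair V V') (x y : ↥(Pof V)) (w : ↥V') :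
    h.disp (x * y) w = h.disp x w * h.disp y w := Subtype.ext (by
  change (x : G) * y * w * ((x : G) * y)⁻¹ * (w : G)⁻¹ =
    (x : G) * w * (x : G)⁻¹ * (w : G)⁻¹ * ((y : G) * w * (y : G)⁻¹ * (w : G)⁻¹)
  have hc : (y : G) * w * (y : G)⁻¹ * (w : G)⁻¹ ∈ V := h.left.comm_mem y.2 (h.le_Pof w.2)
  calc (x : G) * y * w * ((x : G) * y)⁻¹ * (w : G)⁻¹
      = (x : G) * ((y : G) * w * (y : G)⁻¹ * (w : G)⁻¹) * (x : G)⁻¹ *
          ((x : G) * w * (x : G)⁻¹ * (w : G)⁻¹) := by group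
    _ = ((y : G) * w * (y : G)⁻¹ * (w : G)⁻¹) * ((x : G) * w * (x : G)⁻¹ * (w : G)⁻¹) := by
        rw [← x.2.2 _ hc, mul_inv_cancel_right]
    _ = _ := h.left.comm hc (h.left.comm_mem x.2 (h.le_Pof w.2)))

theorem Pair.conj_eq (h : Pair V V') (x : ↥(Pof V)) (w : ↥V') :
    (x : G) * w * (x : G)⁻¹ = (h.disp x w : G) * w := (inv_mul_cancel_right _ _).symm

omit [Finite G] in
theorem Pair.eq_of_mul_eq (h : Pair V V') {a c b d : G} (ha : a ∈ V) (hc : c ∈ V) (hb : b ∈ V')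
    (hd : d ∈ V') (e : a * b = c * d) : a = c ∧ b = d := by
  have h1 : c⁻¹ * a = d * b⁻¹ := by
    calc c⁻¹ * a = c⁻¹ * (a * b) * b⁻¹ := by group
      _ = _ := by rw [e]; group
  have h2 : c⁻¹ * a = 1 :=
    h.disjoint (V.mul_mem (V.inv_mem hc) ha) (h1.symm ▸ V'.mul_mem hd (V'.inv_mem hb))
  obtain rfl : c = a := inv_mul_eq_one.1 h2
  exact ⟨rfl, mul_left_cancel e⟩

theorem Partner.disp_injective (h : Partner V V' U) {u : ↥(Pof V)} (hu : (u : G) ∈ U) (hu1 : u ≠ 1) :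
    Function.Injective (h.pair.disp u) := by
  rw [injective_iff_map_eq_one]
  intro w hw
  by_contra hw1
  refine h.noncomm u hu w w.2 (fun e => hu1 (Subtype.ext e)) (fun e => hw1 (Subtype.ext e)) ?_
  have := congrArg Subtype.val hw
  exact mul_inv_eq_iff_eq_mul.1 (mul_inv_eq_one.1 this)

theorem Partner.disp_bijective (h : Partner V V' U) {u : ↥(Pof V)} (hu : (u : G) ∈ U) (hu1 : u ≠ 1) :
    Function.Bijective (h.pair.disp u) :=
  (Nat.bijective_iff_injective_and_card _).2 ⟨h.disp_injective hu hu1, h.pair.card_eq⟩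

/-- The inverse of a displacement is a displacement of the opposite side. -/
theorem Partner.exists_inverse (h : Partner V V' U) {u : ↥(Pof V)} (hu : (u : G) ∈ U) (hu1 : u ≠ 1) :
    ∃ y : ↥(Pof V'), (∀ w, h.pair.symm.disp y (h.pair.disp u w) = w) ∧
      ∀ v, h.pair.disp u (h.pair.symm.disp y v) = v := by
  obtain ⟨w0, hw0, hw01⟩ := h.pair.exists_ne_one
  obtain ⟨U', h'⟩ := h.pair.symm.exists_partner
  set v0 := h.pair.disp u ⟨w0, hw0⟩ with hv0
  have hv01 : (v0 : G) ≠ 1 := fun e => hw01 (congrArg Subtype.val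
    (h.disp_injective hu hu1 ((Subtype.ext e : v0 = 1).trans (map_one _).symm) : (⟨w0, hw0⟩ : ↥V') = 1))
  have hmem : w0 * (v0 : G) ∈ cj (u : G) V' := by
    rw [← h.pair.comm v0.2 hw0, ← h.pair.conj_eq u ⟨w0, hw0⟩]
    exact conj_mem_cj hw0
  obtain ⟨y, hy, e⟩ := h'.eq_of_mem_mul hw0 v0.2 hv01 hmem
  have key : ∀ w, h.pair.symm.disp ⟨y, h'.pairU.le_Pof hy⟩ (h.pair.disp u w) = w := by
    intro w
    obtain ⟨v, hv, hve⟩ : (u : G) * w * (u : G)⁻¹ ∈ cj y V := e ▸ conj_mem_cj w.2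
    have h1 : (h.pair.disp u w : G) * w =
        v * (h.pair.symm.disp ⟨y, h'.pairU.le_Pof hy⟩ ⟨v, hv⟩ : G) := by
      rw [← h.pair.conj_eq, h.pair.comm hv (h.pair.symm.disp ⟨y, h'.pairU.le_Pof hy⟩ ⟨v, hv⟩).2,
        ← h.pair.symm.conj_eq]
      exact hve.symm
    obtain ⟨e1, e2⟩ := h.pair.eq_of_mul_eq (h.pair.disp u w).2 hv w.2 (Subtype.coe_prop _) h1
    rw [show h.pair.disp u w = ⟨v, hv⟩ from Subtype.ext e1]
    exact Subtype.ext e2.symm
  refine ⟨⟨y, h'.pairU.le_Pof hy⟩, key, fun v => ?_⟩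
  obtain ⟨w, rfl⟩ := (h.disp_bijective hu hu1).2 v
  rw [key]

/-- `H / C_H(V V') ≃ SL(2, |V|)`. -/
theorem Pair.exists_sl2 (hp : Pair V V') :
    ∀ (_ : ((centralizer ((V ⊔ V' : Subgroup G) : Set G)).subgroupOf (Pof V ⊔ Pof V')).Normal),
      ∃ (F : Type) (_ : Field F) (_ : Fintype F), Fintype.card F = Nat.card ↥V ∧
        Nonempty (↥(Pof V ⊔ Pof V') ⧸
          (centralizer ((V ⊔ V' : Subgroup G) : Set G)).subgroupOf (Pof V ⊔ Pof V') ≃*
            Matrix.SpecialLinearGroup (Fin 2) F) := by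
  intro hN
  obtain ⟨U, h⟩ := hp.exists_partner
  let _ : CommGroup ↥V :=
    { (inferInstance : Group ↥V) with mul_comm := fun a b => Subtype.ext (hp.left.comm a.2 b.2) }
  obtain ⟨u0, hu0, hu01⟩ := h.pairU.exists_ne_one
  obtain ⟨u₀, hu₀⟩ : ∃ u₀ : ↥(Pof V), (u₀ : G) = u0 := ⟨⟨u0, h.pairU.le_Pof hu0⟩, rfl⟩
  have hu₀1 : u₀ ≠ 1 := fun e => hu01 (by rw [← hu₀, e]; rfl)
  have hu₀U : (u₀ : G) ∈ U := hu₀ ▸ hu0
  let φ : ↥V' ≃* ↥V := MulEquiv.ofBijective (hp.disp u₀) (h.disp_bijective hu₀U hu₀1)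
  have hφ : ∀ w, φ w = hp.disp u₀ w := fun _ => rfl
  -- the spread set
  let θ : ↥(Pof V) → AddMonoid.End (Additive ↥V) := fun x =>
    MonoidHom.toAdditive ((hp.disp x).comp φ.symm.toMonoidHom)
  let Θ : Additive ↥(Pof V) →+ AddMonoid.End (Additive ↥V) :=
    AddMonoidHom.mk' (fun x => θ x.toMul) fun x y =>
      show θ (x.toMul * y.toMul) = θ x.toMul + θ y.toMul from
      AddMonoidHom.ext fun a => congrArg Additive.ofMul (hp.disp_mul x.toMul y.toMul _)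
  let C : AddSubgroup (AddMonoid.End (Additive ↥V)) := Θ.range
  have hCmem : ∀ x, θ x ∈ C := fun x => ⟨Additive.ofMul x, rfl⟩
  -- the element interchanging the two lines
  obtain ⟨y₀, hy₀, hy₀'⟩ := h.exists_inverse hu₀U hu₀1
  obtain ⟨n, hn⟩ : ∃ n, n = (u₀ : G) * y₀ * u₀ := ⟨_, rfl⟩
  have hnw : ∀ w : ↥V', n * (w : G) * n⁻¹ = φ w := by
    intro w
    calc n * (w : G) * n⁻¹ = (u₀ : G) * y₀ * ((u₀ : G) * w * (u₀ : G)⁻¹) * (y₀ : G)⁻¹ * (u₀ : G)⁻¹ := by
          rw [hn]; group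
      _ = (u₀ : G) * ((y₀ : G) * (φ w : G) * (y₀ : G)⁻¹) * ((y₀ : G) * w * (y₀ : G)⁻¹) * (u₀ : G)⁻¹ := by
          rw [hp.conj_eq, ← hφ]; group
      _ = (u₀ : G) * ((w : G) * φ w) * (w : G) * (u₀ : G)⁻¹ := by
          rw [hp.symm.conj_eq y₀ (φ w), hφ, hy₀, show (y₀ : G) * w = w * y₀ from (y₀.2.2 w w.2).symm]
          group
      _ = (u₀ : G) * ((φ w : G) * ((w : G) * w)) * (u₀ : G)⁻¹ := by
          rw [← hp.comm (φ w).2 w.2]; group
      _ = _ := by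
          rw [hp.right.sq w.2, mul_one, show (u₀ : G) * φ w = φ w * u₀ from (u₀.2.2 _ (φ w).2).symm]
          group
  have hnv : ∀ w : ↥V', n * (φ w : G) * n⁻¹ = w := by
    intro w
    calc n * (φ w : G) * n⁻¹
        = (u₀ : G) * y₀ * ((u₀ : G) * φ w * (u₀ : G)⁻¹) * (y₀ : G)⁻¹ * (u₀ : G)⁻¹ := by rw [hn]; group
      _ = (u₀ : G) * ((y₀ : G) * φ w * (y₀ : G)⁻¹) * (u₀ : G)⁻¹ := by
          rw [show (u₀ : G) * φ w = φ w * u₀ from (u₀.2.2 _ (φ w).2).symm]; group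
      _ = ((u₀ : G) * w * (u₀ : G)⁻¹) * ((u₀ : G) * φ w * (u₀ : G)⁻¹) := by
          rw [hp.symm.conj_eq y₀ (φ w), hφ, hy₀]; group
      _ = ((φ w : G) * w) * φ w := by
          rw [hp.conj_eq, ← hφ, show (u₀ : G) * φ w = φ w * u₀ from (u₀.2.2 _ (φ w).2).symm]; group
      _ = ((φ w : G) * φ w) * w := by rw [mul_assoc, ← hp.comm (φ w).2 w.2]; group
      _ = _ := by rw [hp.left.sq (φ w).2, one_mul]
  have hcjn : cj n V' = V := by
    ext v
    constructor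
    · rintro ⟨w, hw, rfl⟩
      change n * w * n⁻¹ ∈ V
      rw [hnw ⟨w, hw⟩]; exact (φ _).2
    · intro hv
      have := hnw (φ.symm ⟨v, hv⟩)
      rw [φ.apply_symm_apply] at this
      change ((⟨v, hv⟩ : ↥V) : G) ∈ cj n V'
      rw [← this]
      exact conj_mem_cj (φ.symm ⟨v, hv⟩).2
  have hswap : ∀ y : ↥(Pof V'), ∃ x : ↥(Pof V), ∀ w, hp.disp x w = φ (hp.symm.disp y (φ w)) := by
    intro y
    refine ⟨⟨n * y * n⁻¹, ?_⟩, fun w => Subtype.ext ?_⟩
    · rw [← hcjn, ← cj_Pof]; exact conj_mem_cj y.2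
    · rw [← hnw (hp.symm.disp y (φ w))]
      change n * (y : G) * n⁻¹ * w * (n * (y : G) * n⁻¹)⁻¹ * (w : G)⁻¹ =
        n * ((y : G) * φ w * (y : G)⁻¹ * (φ w : G)⁻¹) * n⁻¹
      calc n * (y : G) * n⁻¹ * w * (n * (y : G) * n⁻¹)⁻¹ * (w : G)⁻¹
          = n * ((y : G) * (n⁻¹ * w * n) * (y : G)⁻¹) * n⁻¹ * (w : G)⁻¹ := by group
        _ = n * ((y : G) * φ w * (y : G)⁻¹) * n⁻¹ * (n * φ w * n⁻¹)⁻¹ := by
            rw [hnv w, show n⁻¹ * (w : G) * n = φ w by rw [← hnv w]; group]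
        _ = _ := by group
  have hC : SpreadField.IsSpread C := by
    have hnt : Nontrivial (Additive ↥V) := by
      have : Nontrivial ↥V :=
        (Subgroup.nontrivial_iff_exists_ne_one V).2 ⟨_, (φ ⟨_, hp.exists_ne_one.choose_spec.1⟩).2,
          fun e => hp.exists_ne_one.choose_spec.2 (congrArg Subtype.val (φ.injective
            ((Subtype.ext e : φ ⟨_, _⟩ = 1).trans (map_one φ).symm) : (_ : ↥V') = 1))⟩
      exact Additive.toMul.nontrivial
    have hall : ∀ c ∈ C, ∃ u : ↥(Pof V), (u : G) ∈ U ∧ θ u = c := by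
      rintro _ ⟨x, rfl⟩
      obtain ⟨u, hu, hux⟩ := h.exists_mul x.toMul.2
      refine ⟨⟨u, h.pairU.le_Pof hu⟩, hu, AddMonoidHom.ext fun a =>
        congrArg Additive.ofMul (Subtype.ext ?_)⟩
      change u * _ * u⁻¹ * _ = (x.toMul : G) * _ * (x.toMul : G)⁻¹ * _
      congr 1
      generalize hw : φ.symm.toMonoidHom (Additive.toMul a) = w
      have hxw := hux (w : G) w.2
      calc u * (w : G) * u⁻¹ = u * ((w : G) * (u⁻¹ * x.toMul)) * (x.toMul : G)⁻¹ := by group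
        _ = _ := by rw [← hxw]; group
    refine ⟨fun a => ?_, hnt, ?_, ⟨Additive.ofMul u₀, AddMonoidHom.ext fun a => ?_⟩, ?_⟩
    · exact congrArg Additive.ofMul (Subtype.ext (hp.left.sq a.toMul.2) : a.toMul * a.toMul = 1)
    · let f : ↥U → ↥C := fun u => ⟨θ ⟨u, h.pairU.le_Pof u.2⟩, hCmem _⟩
      have hf : Function.Bijective f := by
        refine ⟨fun a b e => ?_, fun c => ?_⟩
        · by_contra hab
          obtain ⟨w, hw, hw1⟩ := hp.exists_ne_one
          have e' := congrArg Additive.toMul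
            (DFunLike.congr_fun (congrArg Subtype.val e) (Additive.ofMul (φ ⟨w, hw⟩)))
          change hp.disp _ (φ.symm (φ ⟨w, hw⟩)) = hp.disp _ (φ.symm (φ ⟨w, hw⟩)) at e'
          rw [φ.symm_apply_apply] at e'
          have e'' : (a : G) * w * (a : G)⁻¹ = b * w * (b : G)⁻¹ :=
            mul_right_cancel (congrArg Subtype.val e' :)
          refine h.noncomm ((b : G)⁻¹ * a) (U.mul_mem (U.inv_mem b.2) a.2) w hw
            (fun e1 => hab (Subtype.ext (inv_mul_eq_one.1 e1).symm)) hw1 ?_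
          calc (b : G)⁻¹ * a * w = (b : G)⁻¹ * (a * w * (a : G)⁻¹) * a := by group
            _ = _ := by rw [e'']; group
        · obtain ⟨u, hu, e⟩ := hall c c.2
          exact ⟨⟨u, hu⟩, Subtype.ext e⟩
      rw [← Nat.card_eq_of_bijective f hf, h.pairU.card_eq]
      exact Nat.card_congr Additive.ofMul
    · exact congrArg Additive.ofMul (φ.apply_symm_apply _)
    · intro c hc hc0
      obtain ⟨u, hu, rfl⟩ := hall c hc
      have hu1 : u ≠ 1 := fun e => hc0 (AddMonoidHom.ext fun a => congrArg Additive.ofMul (Subtype.ext (by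
        rw [e]
        change (1 : G) * _ * (1 : G)⁻¹ * _ = 1
        group)))
      obtain ⟨y, hy1, hy2⟩ := h.exists_inverse hu hu1
      obtain ⟨x, hx⟩ := hswap y
      refine ⟨θ x, hCmem x, AddMonoidHom.ext fun a => ?_, AddMonoidHom.ext fun a => ?_⟩
      · change Additive.ofMul (hp.disp u (φ.symm (hp.disp x (φ.symm a.toMul)))) = a
        rw [hx, φ.apply_symm_apply, φ.symm_apply_apply, hy2]
        rfl
      · change Additive.ofMul (hp.disp x (φ.symm (hp.disp u (φ.symm a.toMul)))) = a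
        rw [hx, φ.apply_symm_apply, hy1, φ.apply_symm_apply]
        rfl
  obtain ⟨F, _, _, hF, hiso⟩ := hC.exists_sl2
  refine ⟨F, inferInstance, inferInstance, hF.trans (Nat.card_congr Additive.toMul), ?_⟩
  -- coordinates on the plane
  let ψ : Additive ↥V × Additive ↥V → ↥(V ⊔ V') := fun p =>
    ⟨(p.1.toMul : G) * (φ.symm p.2.toMul : G),
      mul_mem (mem_sup_left p.1.toMul.2) (mem_sup_right (φ.symm p.2.toMul).2)⟩
  have hψ : Function.Bijective ψ := by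
    refine ⟨fun p q e => ?_, fun s => ?_⟩
    · obtain ⟨e1, e2⟩ := hp.eq_of_mul_eq p.1.toMul.2 q.1.toMul.2 (φ.symm p.2.toMul).2
        (φ.symm q.2.toMul).2 (congrArg Subtype.val e)
      exact Prod.ext (Additive.toMul.injective (Subtype.ext e1))
        (Additive.toMul.injective (φ.symm.injective (Subtype.ext e2)))
    · obtain ⟨v, hv, w, hw, e⟩ :=
        exists_mul_of_mem_sup (fun a ha b hb => hp.comm ha hb) s.2
      refine ⟨(Additive.ofMul ⟨v, hv⟩, Additive.ofMul (φ ⟨w, hw⟩)), Subtype.ext ?_⟩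
      change v * (φ.symm (φ ⟨w, hw⟩) : G) = s
      rw [φ.symm_apply_apply]; exact e
  let Ψ := Equiv.ofBijective ψ hψ
  let act : ↥(Pof V ⊔ Pof V') →* Equiv.Perm (Additive ↥V × Additive ↥V) :=
    (Ψ.symm.permCongrHom.toMonoidHom.comp
      { toFun := fun σ : MulAut ↥(V ⊔ V') => σ.toEquiv
        map_one' := rfl
        map_mul' := fun _ _ => rfl }).comp
      ((V ⊔ V').normalizerMonoidHom.comp (Subgroup.inclusion hp.le_normalizer_sup))
  have hact : ∀ (z : ↥(Pof V ⊔ Pof V')) p, (ψ (act z p) : G) = (z : G) * ψ p * (z : G)⁻¹ := by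
    intro z p
    change ((Ψ (Ψ.symm _)) : G) = _
    rw [Equiv.apply_symm_apply]
    rfl
  have hker : act.ker = (centralizer ((V ⊔ V' : Subgroup G) : Set G)).subgroupOf (Pof V ⊔ Pof V') := by
    ext z
    rw [MonoidHom.mem_ker, mem_subgroupOf]
    constructor
    · intro hz s hs
      obtain ⟨p, hp'⟩ := hψ.2 ⟨s, hs⟩
      have := hact z p
      rw [hz, Equiv.Perm.one_apply, hp'] at this
      exact eq_mul_inv_iff_mul_eq.1 this
    · intro hz
      refine Equiv.ext fun p => hψ.1 (Subtype.ext ?_)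
      rw [hact, Equiv.Perm.one_apply, ← hz _ (ψ p).2, mul_inv_cancel_right]
  have hup : ∀ (x : ↥(Pof V)), act ⟨x, mem_sup_left x.2⟩ = SpreadField.upPerm (θ x) := by
    intro x
    refine Equiv.ext fun p => hψ.1 (Subtype.ext ?_)
    rw [hact]
    change (x : G) * ((p.1.toMul : G) * (φ.symm p.2.toMul : G)) * (x : G)⁻¹ =
      ((p.1.toMul : G) * (hp.disp x (φ.symm p.2.toMul) : G)) * (φ.symm p.2.toMul : G)
    generalize φ.symm p.2.toMul = w
    calc (x : G) * ((p.1.toMul : G) * w) * (x : G)⁻¹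
        = ((x : G) * p.1.toMul) * w * (x : G)⁻¹ := by group
      _ = (p.1.toMul : G) * ((x : G) * w * (x : G)⁻¹) := by rw [← x.2.2 _ p.1.toMul.2]; group
      _ = _ := by rw [hp.conj_eq]; group
  have hlo : ∀ (y : ↥(Pof V')) (x : ↥(Pof V)), (∀ w, hp.disp x w = φ (hp.symm.disp y (φ w))) →
      act ⟨y, mem_sup_right y.2⟩ = SpreadField.loPerm (θ x) := by
    intro y x hx
    refine Equiv.ext fun p => hψ.1 (Subtype.ext ?_)
    rw [hact]
    change (y : G) * ((p.1.toMul : G) * (φ.symm p.2.toMul : G)) * (y : G)⁻¹ =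
      (p.1.toMul : G) * (φ.symm (hp.disp x (φ.symm p.1.toMul) * p.2.toMul) : G)
    rw [hx, φ.apply_symm_apply, map_mul, φ.symm_apply_apply, Subgroup.coe_mul]
    generalize φ.symm p.2.toMul = w
    calc (y : G) * ((p.1.toMul : G) * w) * (y : G)⁻¹
        = (y : G) * p.1.toMul * (y : G)⁻¹ * ((y : G) * w * (y : G)⁻¹) := by group
      _ = (hp.symm.disp y p.1.toMul : G) * p.1.toMul * w := by
          rw [hp.symm.conj_eq, show (y : G) * w = w * y from (y.2.2 _ w.2).symm]; group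
      _ = _ := by
          rw [← hp.comm p.1.toMul.2 (hp.symm.disp y p.1.toMul).2, mul_assoc]
  have hrange : act.range = Subgroup.closure
      ({σ | ∃ c ∈ C, σ = SpreadField.upPerm c} ∪ {σ | ∃ c ∈ C, σ = SpreadField.loPerm c}) := by
    refine le_antisymm ?_ ((closure_le _).2 ?_)
    · rw [MonoidHom.range_eq_map, ← Subgroup.subgroupOf_self (Pof V ⊔ Pof V'),
        subgroupOf_sup le_sup_left le_sup_right, Subgroup.map_sup, sup_le_iff]
      constructor <;> rintro _ ⟨z, hz, rfl⟩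
      · exact subset_closure (Or.inl ⟨_, hCmem ⟨z, hz⟩, hup ⟨z, hz⟩⟩)
      · obtain ⟨x, hx⟩ := hswap ⟨z, hz⟩
        exact subset_closure (Or.inr ⟨_, hCmem x, hlo ⟨z, hz⟩ x hx⟩)
    · rintro σ (⟨c, ⟨x, rfl⟩, rfl⟩ | ⟨c, ⟨x, rfl⟩, rfl⟩)
      · exact ⟨_, hup x.toMul⟩
      · have hy : n⁻¹ * (x.toMul : G) * n ∈ Pof V' := by
          have hm : (x.toMul : G) ∈ cj n (Pof V') := by rw [cj_Pof, hcjn]; exact x.toMul.2
          exact mem_cj.1 hm
        refine ⟨⟨_, mem_sup_right hy⟩, hlo ⟨_, hy⟩ x.toMul fun w => Subtype.ext ?_⟩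
        rw [← hnw (hp.symm.disp ⟨_, hy⟩ (φ w))]
        change (x.toMul : G) * w * (x.toMul : G)⁻¹ * (w : G)⁻¹ =
          n * (n⁻¹ * (x.toMul : G) * n * φ w * (n⁻¹ * (x.toMul : G) * n)⁻¹ * (φ w : G)⁻¹) * n⁻¹
        conv_lhs => rw [← hnv w]
        group
  obtain ⟨e⟩ := hiso act hrange
  exact ⟨(QuotientGroup.quotientMulEquivOfEq hker.symm).trans e⟩

end Cfsg.Agent.TIRadical
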