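/-
Lines of the plane `V V'` and the structure of `O_2(N(V))`.
Main results: `Pair.existsUnique_line`, `Pair.exists_conj_eq`, `Pair.Pof_eq_Qof`,
`Pair.map_center`, `Pair.map_commutator`, `Pair.map_frattini`.
-/
import Cfsg.Agent.Lib.TIRadical.Plane
import Cfsg.Agent.Lib.PGroup.Basic

set_option autoImplicit false

namespace Cfsg.Agent.TIRadical

open Subgroup
open scoped commutatorElement

variable {G : Type*} [Group G] [Finite G] {V V' : Subgroup G}

/-- Every non-identity element of `V V'` lies in exactly one conjugate of `V` inside `V V'`. -/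
theorem Pair.existsUnique_line (h : Pair V V') {w : G} (hw : w ∈ V ⊔ V') (hw1 : w ≠ 1) :
    ∃! U : Subgroup G, (∃ x : G, U = cj x V) ∧ U ≤ V ⊔ V' ∧ w ∈ U := by
  refine existsUnique_of_exists_of_unique ?_ ?_
  · obtain ⟨v, hv, w', hw', rfl⟩ := exists_mul_of_mem_sup (fun a ha b hb => h.comm ha hb) hw
    by_cases hw'1 : w' = 1
    · exact ⟨V, ⟨1, (cj_one V).symm⟩, le_sup_left, by rwa [hw'1, mul_one]⟩
    obtain ⟨U, hU⟩ := h.exists_partner
    obtain ⟨u, hu, e⟩ := hU.exists_conj_mul hv hw' hw'1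
    obtain ⟨g, hg⟩ := h.conjugate
    refine ⟨cj u V', ⟨u * g, by rw [← hg, cj_cj]⟩, ?_, e ▸ conj_mem_cj hw'⟩
    conv_rhs => rw [← cj_eq_self (h.Pof_le_normalizer_sup (hU.pairU.le_Pof hu))]
    exact map_mono le_sup_right
  · rintro U₁ U₂ ⟨⟨x, rfl⟩, -, h1⟩ ⟨⟨y, rfl⟩, -, h2⟩
    exact Pair.eq_of_mem h.left h1 h2 hw1

/-- `N(V)` is transitive on `V^#`. -/
theorem Pair.exists_conj_eq (h : Pair V V') {a b : G} (ha : a ∈ V) (ha1 : a ≠ 1) (hb : b ∈ V)
    (hb1 : b ≠ 1) : ∃ m ∈ normalizer (V : Set G), m * a * m⁻¹ = b := by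
  obtain ⟨U, hU⟩ := h.exists_partner
  obtain ⟨U', hU'⟩ := h.symm.exists_partner
  obtain ⟨w, hw, hw1⟩ := h.exists_ne_one
  obtain ⟨y, -, hy⟩ := hU'.exists_conj_mul hw ha ha1
  obtain ⟨y', -, hy'⟩ := hU'.exists_conj_mul hw hb hb1
  obtain ⟨x, hx, hxw⟩ := hU.exists_conj_mul (V.mul_mem hb (V.inv_mem ha)) hw hw1
  have key : y'⁻¹ * x * y * a * (y'⁻¹ * x * y)⁻¹ = b := by
    calc y'⁻¹ * x * y * a * (y'⁻¹ * x * y)⁻¹ = y'⁻¹ * (x * (y * a * y⁻¹) * x⁻¹) * y' := by group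
      _ = y'⁻¹ * (x * w * x⁻¹ * (x * a * x⁻¹)) * y' := by rw [hy]; group
      _ = y'⁻¹ * (b * a⁻¹ * (w * a)) * y' := by
          rw [hxw, show x * a * x⁻¹ = a by
            rw [← (hU.pairU.le_Pof hx).2 a ha, mul_inv_cancel_right]]; group
      _ = y'⁻¹ * (w * b) * y' := by
          rw [← h.comm ha hw, ← mul_assoc (b * a⁻¹), inv_mul_cancel_right, h.comm hb hw]
      _ = b := by rw [← hy']; group
  exact ⟨_, h.left.ti _ a ha ha1 (key ▸ hb), key⟩

/-- `O_2(N(V))` centralises `V`. -/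
theorem Pair.Pof_eq_Qof (h : Pair V V') : Pof V = Qof V := by
  have := Fact.mk Nat.prime_two
  refine le_antisymm inf_le_left fun q hq => ⟨hq, fun v hv => ?_⟩
  have hN : (V.subgroupOf (Qof V)).Normal :=
    ⟨fun n hn g => (mem_normalizer_iff.1 (Qof_le V g.2) (n : G)).1 hn⟩
  have hne : V.subgroupOf (Qof V) ≠ ⊥ := by
    intro e
    obtain ⟨a, ha, ha1⟩ := h.symm.exists_ne_one
    exact ha1 (congrArg Subtype.val
      ((Subgroup.eq_bot_iff_forall _).1 e ⟨a, h.left.le_Qof ha⟩ ha))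
  obtain ⟨z, ⟨hzV, hzc⟩, hz1⟩ : ∃ z ∈ V.subgroupOf (Qof V) ⊓ center ↥(Qof V), z ≠ 1 := by
    have := PGroup.inf_center_ne_bot (isPGroup_Qof V) hne
    by_contra hall
    push Not at hall
    exact this ((Subgroup.eq_bot_iff_forall _).2 hall)
  by_cases hv1 : v = 1
  · rw [hv1, one_mul, mul_one]
  obtain ⟨m, hm, rfl⟩ := h.exists_conj_eq hzV (fun e => hz1 (Subtype.ext e)) hv hv1
  have hq' : m⁻¹ * q * m ∈ Qof V := by simpa using conj_mem_Qof (inv_mem hm) hq
  have hc : (m⁻¹ * q * m) * z = z * (m⁻¹ * q * m) :=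
    congrArg Subtype.val (mem_center_iff.1 hzc ⟨_, hq'⟩)
  simp only [Subgroup.subtype_apply]
  calc m * z * m⁻¹ * q = m * (z * (m⁻¹ * q * m)) * m⁻¹ := by group
    _ = _ := by rw [← hc]; group

/-- `Z(O_2(N(V))) = V`. -/
theorem Pair.map_center (h : Pair V V') : (center ↥(Qof V)).map (Qof V).subtype = V := by
  refine le_antisymm ?_ fun v hv => ?_
  · rintro _ ⟨z, hz, rfl⟩
    refine h.left.eq_of_central (h.Pof_eq_Qof.symm.le z.2) fun p hp => ?_
    exact (congrArg Subtype.val (mem_center_iff.1 hz ⟨p, hp.1⟩)).symm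
  · refine ⟨⟨v, h.left.le_Qof hv⟩, mem_center_iff.2 fun q => Subtype.ext ?_, rfl⟩
    exact ((h.Pof_eq_Qof.symm.le q.2).2 v hv).symm

/-- `O_2(N(V))' = V`. -/
theorem Pair.map_commutator (h : Pair V V') :
    (_root_.commutator ↥(Qof V)).map (Qof V).subtype = V := by
  rw [commutator_def, Subgroup.map_commutator, ← MonoidHom.range_eq_map, range_subtype]
  refine le_antisymm (h.Pof_eq_Qof ▸ h.left.commutator_Pof_le) fun v hv => ?_
  obtain ⟨U, hU⟩ := h.exists_partner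
  obtain ⟨w, hw, hw1⟩ := h.exists_ne_one
  obtain ⟨u, hu, e⟩ := hU.exists_conj_mul hv hw hw1
  rw [show v = ⁅u, w⁆ by rw [commutatorElement_def, e, mul_inv_cancel_right]]
  exact commutator_mem_commutator (hU.pairU.le hu) (h.le hw)

/-- `Φ(O_2(N(V))) = V`. -/
theorem Pair.map_frattini (h : Pair V V') : (frattini ↥(Qof V)).map (Qof V).subtype = V := by
  have := Fact.mk Nat.prime_two
  refine le_antisymm ?_ ?_
  · have hN : (V.subgroupOf (Qof V)).Normal :=
      ⟨fun n hn g => (mem_normalizer_iff.1 (Qof_le V g.2) (n : G)).1 hn⟩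
    refine map_le_iff_le_comap.2 (PGroup.frattini_le_of_quotient_elementary (p := 2) (N := V.subgroupOf (Qof V)) ?_ fun x => ?_)
    · exact map_le_iff_le_comap.1 h.map_commutator.le
    · rw [pow_two]
      exact h.left.mul_self_mem (h.Pof_eq_Qof.symm.le x.2)
  · conv_lhs => rw [← h.map_commutator]
    exact map_mono (PGroup.commutator_le_frattini (isPGroup_Qof V))

end Cfsg.Agent.TIRadical
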